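import Cfsg.Agent.Lib.KnownA.ClassNumberSU.Star

/-!
The conjugate duality between blocks `F[X] / (P)` and `F[X] / (star P)`.
-/

set_option autoImplicit false
set_option linter.unusedSectionVars false

namespace CfsgLib.ClassNumberSU

open Polynomial CfsgLib.Classical CfsgLib.ClassNumberSL

variable {F : Type*} [Field F] {σ : F →+* F}

theorem eval₂_mul_pow {S : Type*} [CommRing S] (φ : F →+* S) (x y : S) (hxy : x * y = 1) (P : F[X]) :
    eval₂ φ y P * x ^ P.natDegree = eval₂ φ x P.reverse := by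
  have hpow : ∀ i ≤ P.natDegree, y ^ i * x ^ P.natDegree = x ^ (P.natDegree - i) := by
    intro i hi
    conv_lhs => rw [← Nat.add_sub_cancel' hi, pow_add, ← mul_assoc, ← mul_pow, mul_comm y x, hxy, one_pow, one_mul]
  rw [eval₂_eq_sum_range, eval₂_eq_sum_range' φ (n := P.natDegree + 1)
    (Nat.lt_succ_of_le (reverse_natDegree_le P)), Finset.sum_mul, ← Finset.sum_range_reflect]
  refine Finset.sum_congr rfl fun j hj => ?_
  have hj' : j ≤ P.natDegree := Nat.le_of_lt_succ (Finset.mem_range.1 hj)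
  rw [mul_assoc, Nat.add_sub_cancel, hpow _ (Nat.sub_le _ _), Nat.sub_sub_self hj', coeff_reverse, revAt_le hj']

/-- The inverse of `X` in a block. -/
noncomputable def xinv (R : F[X]) : Q R := Ideal.Quotient.mk _ (-C (R.coeff 0)⁻¹ * R.divX)

theorem X_mul_xinv {R : F[X]} (h0 : R.coeff 0 ≠ 0) : Ideal.Quotient.mk _ X * xinv R = 1 := by
  rw [xinv, ← map_mul, ← map_one (Ideal.Quotient.mk (Ideal.span {R})), mk_eq_mk_iff]
  refine ⟨-C (R.coeff 0)⁻¹, ?_⟩
  have h := X_mul_divX_add R
  have hC : C (R.coeff 0) * C (R.coeff 0)⁻¹ = (1 : F[X]) := by rw [← C_mul, mul_inv_cancel₀ h0, C_1]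
  linear_combination (-C (R.coeff 0)⁻¹) * h + hC

/-- The semilinear map `X ↦ X⁻¹` into a block. -/
noncomputable def tau0 (σ : F →+* F) (R : F[X]) : F[X] →+* Q R :=
  eval₂RingHom ((Ideal.Quotient.mk _).comp (C.comp σ)) (xinv R)

theorem tau0_mul_pow {R : F[X]} (h0 : R.coeff 0 ≠ 0) (f : F[X]) :
    tau0 σ R f * Ideal.Quotient.mk _ X ^ f.natDegree = Ideal.Quotient.mk _ (f.map σ).reverse := by
  have h := eval₂_mul_pow ((Ideal.Quotient.mk (Ideal.span {R})).comp C) _ _ (X_mul_xinv h0) (f.map σ)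
  rw [natDegree_map, eval₂_map, RingHom.comp_assoc] at h
  refine h.trans ?_
  rw [← hom_eval₂, eval₂_C_X]

theorem tau0_mul_pow_star {R : F[X]} (h0 : R.coeff 0 ≠ 0) {f : F[X]} (hf : f.coeff 0 ≠ 0) :
    tau0 σ R f * Ideal.Quotient.mk _ X ^ f.natDegree =
      Ideal.Quotient.mk _ (C (σ (f.coeff 0))) * Ideal.Quotient.mk _ (star σ f) := by
  rw [tau0_mul_pow h0, ← map_mul, star, ← mul_assoc, ← C_mul,
    mul_inv_cancel₀ ((map_ne_zero σ).2 hf), C_1, one_mul]

/-- `R` is the conjugate reciprocal of `P`. -/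
structure Dual (σ : F →+* F) (P R : F[X]) : Prop where
  monic : P.Monic
  coeff0 : P.coeff 0 ≠ 0
  eq : R = star σ P

namespace Dual

variable {P R : F[X]} (h : Dual σ P R)
include h

theorem monic' : R.Monic := h.eq ▸ monic_star h.coeff0

theorem coeff0' : R.coeff 0 ≠ 0 := h.eq ▸ coeff_zero_star_ne h.monic h.coeff0

theorem symm (hc : IsConjugation σ) : Dual σ R P :=
  ⟨h.monic', h.coeff0', by rw [h.eq, star_star hc h.monic h.coeff0]⟩

theorem tau0_self : tau0 σ R P = 0 := by
  have h1 := tau0_mul_pow_star (σ := σ) h.coeff0' h.coeff0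
  rw [(mk_eq_zero_iff R (star σ P)).2 (dvd_of_eq h.eq), mul_zero] at h1
  exact (((IsUnit.of_mul_eq_one _ (X_mul_xinv h.coeff0')).pow _).mul_left_eq_zero).1 h1

end Dual

variable {P R : F[X]}

/-- The semilinear duality of blocks. -/
noncomputable def tau (h : Dual σ P R) : Q P →+* Q R :=
  Ideal.Quotient.lift _ (tau0 σ R) fun f hf => by
    obtain ⟨g, rfl⟩ := Ideal.mem_span_singleton'.1 hf
    rw [map_mul, h.tau0_self, mul_zero]

theorem tau_mk (h : Dual σ P R) (f : F[X]) : tau h (Ideal.Quotient.mk _ f) = tau0 σ R f := rfl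

theorem tau_C (h : Dual σ P R) (c : F) :
    tau h (Ideal.Quotient.mk _ (C c)) = Ideal.Quotient.mk _ (C (σ c)) := by
  rw [tau_mk, tau0, coe_eval₂RingHom, eval₂_C]
  rfl

theorem tau_X (h : Dual σ P R) : tau h (Ideal.Quotient.mk _ X) = xinv R := by
  rw [tau_mk, tau0, coe_eval₂RingHom, eval₂_X]

theorem smul_eq_mk_C_mul (c : F) (x : Q P) : c • x = Ideal.Quotient.mk _ (C c) * x := by
  rw [← C_smul_eq c x]
  obtain ⟨x, rfl⟩ := Ideal.Quotient.mk_surjective x
  rfl

theorem tau_smul (h : Dual σ P R) (c : F) (x : Q P) : tau h (c • x) = σ c • tau h x := by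
  rw [smul_eq_mk_C_mul, smul_eq_mk_C_mul, map_mul, tau_C]

theorem tau_tau (hc : IsConjugation σ) (h : Dual σ P R) (h' : Dual σ R P) (x : Q P) :
    tau h' (tau h x) = x := by
  suffices e : (tau h').comp (tau h) = RingHom.id _ from RingHom.congr_fun e x
  refine Ideal.Quotient.ringHom_ext (Polynomial.ringHom_ext (fun c => ?_) ?_)
  · simp only [RingHom.comp_apply, RingHom.id_apply, tau_C, hc.invol]
  · simp only [RingHom.comp_apply, RingHom.id_apply, tau_X]
    have e2 : tau h' (Ideal.Quotient.mk _ X) * tau h' (xinv R) = 1 := by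
      rw [← map_mul, X_mul_xinv h.coeff0', map_one]
    rw [tau_X, mul_comm] at e2
    exact (left_inv_eq_right_inv (X_mul_xinv h'.coeff0') (by rw [mul_comm]; exact e2)).symm

/-- The duality as an equivalence. -/
noncomputable def tauEquiv (hc : IsConjugation σ) (h : Dual σ P R) : Q P ≃+* Q R where
  toFun := tau h
  invFun := tau (h.symm hc)
  left_inv := tau_tau hc h _
  right_inv := tau_tau hc (h.symm hc) _
  map_mul' := map_mul _
  map_add' := map_add _

theorem norm_tau (hc : IsConjugation σ) (h : Dual σ P R) (x : Q P) :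
    Algebra.norm F (tau h x) = σ (Algebra.norm F x) := by
  let e₁ : F ≃+* F := RingEquiv.ofBijective σ (Function.Involutive.bijective hc.invol)
  have he : (algebraMap F (Q R)).comp (e₁ : F →+* F) =
      ((tauEquiv hc h : Q P ≃+* Q R) : Q P →+* Q R).comp (algebraMap F (Q P)) := by
    refine RingHom.ext fun c => ?_
    show algebraMap F (Q R) (σ c) = tau h (algebraMap F (Q P) c)
    exact (tau_C h c).symm
  rw [Algebra.norm_eq_of_equiv_equiv e₁ (tauEquiv hc h) he x]
  exact (e₁.apply_symm_apply _).symm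

/-- The top coefficient. -/
noncomputable def ell (hR : R.Monic) : Q R →ₗ[F] F :=
  (lcoeff F (R.natDegree - 1)).comp (AdjoinRoot.modByMonicHom hR : Q R →ₗ[F] F[X])

theorem ell_mk (hR : R.Monic) (f : F[X]) :
    ell hR (Ideal.Quotient.mk _ f) = (f %ₘ R).coeff (R.natDegree - 1) := by
  show (AdjoinRoot.modByMonicHom hR (AdjoinRoot.mk R f)).coeff _ = _
  rw [AdjoinRoot.modByMonicHom_mk]

theorem eq_zero_of_ell (hR : R.Monic) (b : Q R) (h : ∀ a, ell hR (a * b) = 0) : b = 0 := by
  obtain ⟨f, rfl⟩ := Ideal.Quotient.mk_surjective b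
  have hmod : Ideal.Quotient.mk (Ideal.span {R}) f = Ideal.Quotient.mk _ (f %ₘ R) := by
    rw [mk_eq_mk_iff]
    exact ⟨f /ₘ R, by linear_combination -(modByMonic_add_div f R)⟩
  rw [hmod] at h ⊢
  by_contra hne
  have hr0 : f %ₘ R ≠ 0 := fun h0 => hne (by rw [h0, map_zero])
  have hlt : (f %ₘ R).degree < R.degree := degree_modByMonic_lt f hR
  have hlt' : (f %ₘ R).natDegree < R.natDegree := natDegree_lt_natDegree hr0 hlt
  have h1 := h (Ideal.Quotient.mk _ (X ^ (R.natDegree - 1 - (f %ₘ R).natDegree)))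
  set r := f %ₘ R
  rw [← map_mul, ell_mk, (modByMonic_eq_self_iff hR).2 ?_] at h1
  · rw [coeff_X_pow_mul' , if_pos (Nat.sub_le _ _), Nat.sub_sub_self (by omega), coeff_natDegree] at h1
    exact hr0 (leadingCoeff_eq_zero.1 h1)
  · rw [degree_eq_natDegree (mul_ne_zero (pow_ne_zero _ X_ne_zero) hr0), degree_eq_natDegree hR.ne_zero,
      natDegree_mul (pow_ne_zero _ X_ne_zero) hr0, natDegree_X_pow]
    exact_mod_cast (by omega : R.natDegree - 1 - r.natDegree + r.natDegree < R.natDegree)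

/-- The semilinear pairing of dual blocks. -/
noncomputable def beta (h : Dual σ P R) : Q P →ₛₗ[σ] Q R →ₗ[F] F :=
  LinearMap.mk₂'ₛₗ σ (RingHom.id F) (fun a b => ell h.monic' (tau h a * b))
    (fun a a' b => by simp [add_mul])
    (fun c a b => by simp [tau_smul, smul_mul_assoc])
    (fun a b b' => by simp [mul_add])
    (fun c a b => by simp [mul_smul_comm])

theorem beta_apply (h : Dual σ P R) (a : Q P) (b : Q R) : beta h a b = ell h.monic' (tau h a * b) := rfl

theorem beta_mul (h : Dual σ P R) {m : Q P} {m' : Q R} (hm : tau h m * m' = 1) (a : Q P) (b : Q R) :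
    beta h (m * a) (m' * b) = beta h a b := by
  rw [beta_apply, beta_apply, map_mul (tau h)]
  congr 1
  linear_combination (tau h a * b) * hm

theorem beta_left (hc : IsConjugation σ) (h : Dual σ P R) {s : Q P} (hs : ∀ b, beta h s b = 0) : s = 0 := by
  have h1 : tau h s = 0 := eq_zero_of_ell h.monic' _ fun a => by rw [mul_comm]; exact hs a
  rw [← tau_tau hc h (h.symm hc) s, h1, map_zero]

theorem beta_right (hc : IsConjugation σ) (h : Dual σ P R) {s : Q R} (hs : ∀ a, beta h a s = 0) : s = 0 := by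
  refine eq_zero_of_ell h.monic' s fun a => ?_
  have h1 := hs (tau (h.symm hc) a)
  rwa [beta_apply, tau_tau hc (h.symm hc) h a] at h1

theorem exists_theta (hc : IsConjugation σ) {p : F[X]} (hp : p.Monic) (hi : Irreducible p) {e : ℕ}
    (h : Dual σ (p ^ e) (p ^ e)) :
    ∃ θ : F, ∀ s, (∀ b, θ * beta h s b + σ (θ * beta h b s) = 0) → s = 0 := by
  by_contra hbad
  push Not at hbad
  obtain ⟨ω, hω⟩ := hc.exists_not_fixed
  have hz : ∀ θ, ∀ b, θ * beta h (Ideal.Quotient.mk _ (p ^ (e - 1))) b +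
      σ (θ * beta h b (Ideal.Quotient.mk _ (p ^ (e - 1)))) = 0 := by
    intro θ
    obtain ⟨s, hs, hs0⟩ := hbad θ
    have hideal : ∀ r b, θ * beta h (r * s) b + σ (θ * beta h b (r * s)) = 0 := by
      intro r b
      have e1 : beta h (r * s) b = beta h s (tau h r * b) := by
        rw [beta_apply, beta_apply, map_mul (tau h)]; ring_nf
      have e2 : beta h b (r * s) = beta h (tau h r * b) s := by
        rw [beta_apply, beta_apply, map_mul (tau h), tau_tau hc h h]; ring_nf
      rw [e1, e2, hs]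
    obtain ⟨f, rfl⟩ := Ideal.Quotient.mk_surjective s
    rw [ne_eq, mk_eq_zero_iff] at hs0
    classical
    have hex : ∃ t, p ^ e ∣ p ^ t * f := ⟨e, dvd_mul_right _ _⟩
    obtain ⟨t, ht⟩ : ∃ t, Nat.find hex = t + 1 := by
      refine Nat.exists_eq_succ_of_ne_zero fun h0 => hs0 ?_
      have := Nat.find_spec hex
      rwa [h0, pow_zero, one_mul] at this
    have h1 := Nat.find_spec hex
    have h2 : ¬ p ^ e ∣ p ^ t * f := Nat.find_min hex (by omega)
    rw [ht] at h1
    obtain ⟨k, hk⟩ : ∃ k, e = k + 1 := ⟨e - 1, by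
      have : e ≠ 0 := fun h0 => hs0 (by rw [h0, pow_zero]; exact one_dvd f)
      omega⟩
    have h3 : p ^ k ∣ p ^ t * f := by
      rw [hk, pow_succ', pow_succ' p t, mul_assoc] at h1
      exact (mul_dvd_mul_iff_left hp.ne_zero).1 h1
    obtain ⟨u, hu⟩ := h3
    have hpu : IsCoprime p u := (hi.coprime_iff_not_dvd).2 fun hd => h2 (by
      rw [hu, hk, pow_succ]
      exact mul_dvd_mul_left _ hd)
    obtain ⟨a, c, hac⟩ := hpu
    intro b
    have e3 : Ideal.Quotient.mk (Ideal.span {p ^ e}) (p ^ (e - 1)) =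
        Ideal.Quotient.mk _ (c * p ^ t) * Ideal.Quotient.mk _ f := by
      rw [← map_mul, mk_eq_mk_iff, hk, Nat.add_sub_cancel, mul_assoc, hu, pow_succ]
      exact ⟨a, by linear_combination -(p ^ k) * hac⟩
    rw [e3]
    exact hideal _ b
  have hkill : Ideal.Quotient.mk (Ideal.span {p ^ e}) (p ^ (e - 1)) = 0 := by
    refine beta_left hc h fun b => ?_
    have h1 := hz 1 b
    have h2 := hz ω b
    simp only [map_mul, map_one, one_mul] at h1 h2
    have h3 : (ω - σ ω) * beta h (Ideal.Quotient.mk _ (p ^ (e - 1))) b = 0 := by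
      linear_combination h2 - σ ω * h1
    exact (mul_eq_zero.1 h3).resolve_left (sub_ne_zero.2 (Ne.symm hω))
  rw [mk_eq_zero_iff] at hkill
  rcases Nat.eq_zero_or_pos e with rfl | he
  · obtain ⟨s, -, hs0⟩ := hbad 1
    obtain ⟨f, rfl⟩ := Ideal.Quotient.mk_surjective s
    exact hs0 ((mk_eq_zero_iff _ _).2 (by rw [pow_zero]; exact one_dvd f))
  · have h4 := natDegree_le_of_dvd hkill (pow_ne_zero _ hp.ne_zero)
    rw [hp.natDegree_pow, hp.natDegree_pow] at h4
    have := Nat.le_of_mul_le_mul_right h4 hi.natDegree_pos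
    omega

theorem norm_mk (P u : F[X]) : Algebra.norm F (Ideal.Quotient.mk (Ideal.span {P}) u) = LinearMap.det (mu P u) :=
  rfl

theorem norm_X {P : F[X]} (hP : P.Monic) : Algebra.norm F (Ideal.Quotient.mk (Ideal.span {P}) X) = ev P := by
  have h := Algebra.PowerBasis.norm_gen_eq_coeff_zero_minpoly (AdjoinRoot.powerBasis hP.ne_zero)
  rw [AdjoinRoot.powerBasis_gen, AdjoinRoot.powerBasis_dim, AdjoinRoot.minpoly_root hP.ne_zero,
    hP.leadingCoeff, inv_one, map_one, mul_one] at h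
  exact h

theorem exists_unit_norm [Finite F] {p : F[X]} (hp : p.Monic) (hi : Irreducible p) (e : ℕ) {w : F}
    (hw : w ≠ 0) : ∃ z : Q (p ^ e), IsUnit z ∧ Algebra.norm F z = w ^ e := by
  obtain ⟨u, hu⟩ := exists_det_mu hp hi w
  have hd : LinearMap.det (mu (p ^ e) u) = w ^ e := by rw [det_mu_pow hp, hu]
  haveI := finite_Q (hp.pow e)
  have hdet : LinearMap.det (mu (p ^ e) u) ≠ 0 := by rw [hd]; exact pow_ne_zero _ hw
  obtain ⟨y, hy⟩ := (LinearMap.equivOfDetNeZero _ hdet).surjective 1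
  exact ⟨Ideal.Quotient.mk _ u, IsUnit.of_mul_eq_one y hy, hd⟩

end CfsgLib.ClassNumberSU
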