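import Cfsg.Agent.Lib.KnownA.ClassNumberSU.Intertwine
import Cfsg.Agent.Lib.KnownA.ClassNumberSU.Pairing
import Cfsg.Agent.Lib.Classical.HermCount

/-!
A Hermitian form preserved by a matrix with self-dual elementary divisors, and centralizing isometries.
-/

set_option autoImplicit false
set_option linter.unusedSectionVars false

namespace CfsgLib.ClassNumberSU

open Polynomial Finset CfsgLib.Classical CfsgLib.ClassNumberSL CfsgLib.ClassNumberGL

attribute [local instance] CfsgLib.ClassNumberGL.Decomp.fι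

variable {F : Type*} [Field F] {σ : F →+* F} {n : ℕ} {A : Matrix (Fin n) (Fin n) F}

/-- The kernels of the powers of `p` and of `star p` in `A` have the same size. -/
def Symm (σ : F →+* F) (A : Matrix (Fin n) (Fin n) F) : Prop :=
  ∀ p : F[X], p.Monic → p.coeff 0 ≠ 0 → ∀ k,
    Nat.card {v : Fin n → F // aeval (Matrix.toLin' A) (p ^ k) v = 0} =
      Nat.card {v : Fin n → F // aeval (Matrix.toLin' A) (star σ p ^ k) v = 0}

theorem exists_involution {ι γ : Type*} [Fintype ι] (c : ι → γ) (s : γ → γ) (hs : ∀ j, s (s (c j)) = c j)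
    (hN : ∀ j, Nat.card {i // c i = s (c j)} = Nat.card {i // c i = c j}) :
    ∃ π : ι → ι, (∀ j, π (π j) = j) ∧ (∀ j, c (π j) = s (c j)) ∧ ∀ j, s (c j) = c j → π j = j := by
  classical
  let rk : ∀ (d : γ) (i : ι), c i = d → ℕ := fun d i h => (Fintype.equivFin {i // c i = d} ⟨i, h⟩ : ℕ)
  have hrk : ∀ d d' i (h : c i = d) (h' : c i = d'), rk d i h = rk d' i h' := by
    intro d d' i h h'
    subst h; subst h'; rfl
  have huniq : ∀ i i', c i = c i' → rk _ i rfl = rk _ i' rfl → i = i' := by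
    intro i i' h h'
    rw [hrk _ (c i') i rfl h] at h'
    exact congrArg Subtype.val ((Fintype.equivFin {x // c x = c i'}).injective (Fin.ext h'))
  have hex : ∀ j, ∃ i, c i = s (c j) ∧ rk _ i rfl = rk _ j rfl := by
    intro j
    have hlt : rk (c j) j rfl < Fintype.card {i // c i = s (c j)} := by
      rw [← Nat.card_eq_fintype_card, hN j, Nat.card_eq_fintype_card]
      exact Fin.isLt _
    let i := (Fintype.equivFin {i // c i = s (c j)}).symm ⟨_, hlt⟩
    refine ⟨i.1, i.2, ?_⟩
    rw [hrk _ (s (c j)) i.1 rfl i.2]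
    exact congrArg Fin.val ((Fintype.equivFin _).apply_symm_apply ⟨_, hlt⟩)
  choose π hπ hr using hex
  refine ⟨π, fun j => huniq _ _ ?_ (by rw [hr, hr]), hπ, fun j h => huniq _ _ (by rw [hπ, h]) (hr j)⟩
  rw [hπ, hπ, hs]

theorem sum_min_count {ι : Type*} [Fintype ι] [DecidableEq F[X]] (e : ι → ℕ) (p : ι → F[X]) (r : F[X]) (i : ℕ) :
    (Finset.univ.filter fun j => (e j, p j) = (i + 1, r)).card +
        ∑ j ∈ univ.filter (fun j => p j = r), min i (e j) +
        ∑ j ∈ univ.filter (fun j => p j = r), min (i + 2) (e j) =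
      2 * ∑ j ∈ univ.filter (fun j => p j = r), min (i + 1) (e j) := by
  rw [Finset.card_filter, Finset.sum_filter, Finset.sum_filter, Finset.sum_filter, Finset.mul_sum,
    ← Finset.sum_add_distrib, ← Finset.sum_add_distrib]
  refine Finset.sum_congr rfl fun j _ => ?_
  by_cases hj : p j = r
  · simp only [hj, if_true, Prod.mk.injEq, and_true]
    split_ifs <;> omega
  · simp [hj]

theorem coeff_zero_pow (p : F[X]) (e : ℕ) : (p ^ e).coeff 0 = p.coeff 0 ^ e := by
  rw [coeff_zero_eq_eval_zero, eval_pow, coeff_zero_eq_eval_zero]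

variable [Fintype F]

theorem exists_pairing (hc : IsConjugation σ) (hA : IsUnit A) (hsym : Symm σ A) (D : Decomp A) :
    ∃ π : D.ι → D.ι, (∀ j, π (π j) = j) ∧ (∀ j, D.p (π j) = star σ (D.p j)) ∧ (∀ j, D.e (π j) = D.e j) ∧
      ∀ j, Dual σ (D.p j ^ D.e j) (D.p (π j) ^ D.e (π j)) := by
  classical
  have h0 := fun j => decomp_coeff_zero hA D j
  obtain ⟨π, h1, h2, -⟩ := exists_involution (fun j => (D.e j, D.p j)) (fun c => (c.1, star σ c.2))
    (fun j => by simp only [star_star hc (D.monic j) (h0 j)]) (fun j₀ => by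
      simp only [Nat.card_eq_fintype_card, Fintype.card_subtype]
      obtain ⟨i, hi⟩ : ∃ i, D.e j₀ = i + 1 := ⟨D.e j₀ - 1, by have := D.pos j₀; omega⟩
      have hS : ∀ k, ∑ j ∈ univ.filter (fun j => D.p j = star σ (D.p j₀)), min k (D.e j) =
          ∑ j ∈ univ.filter (fun j => D.p j = D.p j₀), min k (D.e j) := by
        intro k
        have h := hsym _ (D.monic j₀) (h0 j₀) k
        rw [natCard_ker_decomp D (D.monic j₀) (D.irr j₀), natCard_ker_decomp D (monic_star (h0 j₀))
          (irreducible_star hc (D.monic j₀) (h0 j₀) (D.irr j₀)), natDegree_star (h0 j₀)] at h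
        exact Nat.eq_of_mul_eq_mul_left (D.irr j₀).natDegree_pos
          (Nat.pow_right_injective Fintype.one_lt_card h).symm
      have c1 := sum_min_count D.e D.p (star σ (D.p j₀)) i
      have c2 := sum_min_count D.e D.p (D.p j₀) i
      rw [hS, hS, hS] at c1
      rw [hi]
      omega)
  refine ⟨π, h1, fun j => congrArg Prod.snd (h2 j), fun j => congrArg Prod.fst (h2 j), fun j => ⟨(D.monic j).pow _, ?_, ?_⟩⟩
  · rw [coeff_zero_pow]; exact pow_ne_zero _ (h0 j)
  · rw [show D.p (π j) = star σ (D.p j) from congrArg Prod.snd (h2 j),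
      show D.e (π j) = D.e j from congrArg Prod.fst (h2 j), star_pow]

theorem star_tup (hc : IsConjugation σ) (hA : IsUnit A) (hsym : Symm σ A) (D : Decomp A) (i : Fin n) :
    star σ (tup D i) = tup D i := by
  classical
  obtain ⟨π, h1, h2, h3, -⟩ := exists_pairing hc hA hsym D
  rw [tup, star_prod]
  refine Finset.prod_nbij' π π (fun j hj => ?_) (fun j hj => ?_) (fun j _ => h1 j) (fun j _ => h1 j)
    (fun j _ => (h2 j).symm) <;>
  simpa [h3] using hj

theorem mk_X_smul {P : F[X]} (x : Q P) : (X : F[X]) • x = Ideal.Quotient.mk _ X * x :=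
  (mu_eq_smul P X x).symm

theorem exists_model (hc : IsConjugation σ) (hA : IsUnit A) (hsym : Symm σ A) (D : Decomp A) :
    ∃ H : (Fin n → F) →ₛₗ[σ] (Fin n → F) →ₗ[F] F, IsHermitian H ∧ H.SeparatingRight ∧
      (∀ v w, H (Matrix.toLin' A v) (Matrix.toLin' A w) = H v w) ∧
      ∀ i : Fin n, 0 < (tup D i).natDegree → ∀ y : F, y * σ y = 1 → ∃ Z : Module.End F (Fin n → F),
        (∀ v, Z (Matrix.toLin' A v) = Matrix.toLin' A (Z v)) ∧ (∀ v w, H (Z v) (Z w) = H v w) ∧
        LinearMap.det Z = y ^ ((i : ℕ) + 1) := by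
  classical
  obtain ⟨π, hπ, -, -, hd⟩ := exists_pairing hc hA hsym D
  let P := fun j => D.p j ^ D.e j
  have hθ : ∀ j, ∃ θ : F, ∀ h : Dual σ (P j) (P j), ∀ s,
      (∀ b, θ * beta h s b + σ (θ * beta h b s) = 0) → s = 0 := by
    intro j
    by_cases h : Dual σ (P j) (P j)
    · obtain ⟨θ, hθ⟩ := exists_theta hc (D.monic j) (D.irr j) h
      exact ⟨θ, fun _ => hθ⟩
    · exact ⟨0, fun h' => absurd h' h⟩
  choose θ hθ using hθ
  let E := Fintype.equivFin D.ι
  let a : D.ι → F := fun j => if π j = j then θ j else if E j < E (π j) then 1 else 0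
  let G : (Fin n → F) →ₛₗ[σ] (Fin n → F) →ₗ[F] F :=
    LinearMap.mk₂'ₛₗ σ (RingHom.id F) (fun v w => ∑ j, a j * beta (hd j) (e0 D v j) (e0 D w (π j)))
      (fun v v' w => by simp [mul_add, Finset.sum_add_distrib])
      (fun c v w => by simp [Finset.mul_sum, mul_left_comm])
      (fun v w w' => by simp [mul_add, Finset.sum_add_distrib])
      (fun c v w => by simp [Finset.mul_sum, mul_left_comm])
  have hG : ∀ v w, G v w = ∑ j, a j * beta (hd j) (e0 D v j) (e0 D w (π j)) := fun v w => rfl
  let H : (Fin n → F) →ₛₗ[σ] (Fin n → F) →ₗ[F] F :=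
    LinearMap.mk₂'ₛₗ σ (RingHom.id F) (fun v w => G v w + σ (G w v))
      (fun v v' w => by simp only [map_add, LinearMap.add_apply]; ring)
      (fun c v w => by
        simp only [map_smulₛₗ, LinearMap.smul_apply, smul_eq_mul, map_mul, RingHom.id_apply]; ring)
      (fun v w w' => by simp only [map_add, LinearMap.add_apply]; ring)
      (fun c v w => by
        simp only [map_smulₛₗ, LinearMap.smul_apply, smul_eq_mul, map_mul, RingHom.id_apply, hc.invol]; ring)
  have hH : ∀ v w, H v w = G v w + σ (G w v) := fun v w => rfl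
  have hinv : ∀ (Z : Module.End F (Fin n → F)) (m : ∀ j, Q (P j)), (∀ v j, e0 D (Z v) j = m j * e0 D v j) →
      (∀ j, tau (hd j) (m j) * m (π j) = 1) → ∀ v w, H (Z v) (Z w) = H v w := by
    intro Z m hZ hm v w
    have hGi : ∀ v w, G (Z v) (Z w) = G v w := fun v w => by
      rw [hG, hG]
      exact Finset.sum_congr rfl fun j _ => by rw [hZ, hZ, beta_mul _ (hm j)]
    rw [hH, hH, hGi, hGi]
  refine ⟨H, ⟨hc, fun v w => ?_⟩, fun v hv => ?_, ?_, ?_⟩
  · rw [hH, hH, map_add, hc.invol, add_comm]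
  · have hv' : ∀ w, H v w = 0 := fun w => by
      rw [hH, ← map_zero σ, ← hv w, hH, map_add, hc.invol, add_comm]
    refine (e0 D).map_eq_zero_iff.1 (funext fun j => ?_)
    set s := e0 D v j with hsdef
    have key : ∀ b, a j * beta (hd j) s b + σ (a (π j) * beta ((hd j).symm hc) b s) = 0 := by
      intro b
      have h := hv' ((e0 D).symm (Pi.single (π j) b))
      rw [hH, hG, hG, Finset.sum_eq_single j (fun i _ hi => ?_) (fun h => absurd (Finset.mem_univ j) h),
        Finset.sum_eq_single (π j) (fun i _ hi => ?_) (fun h => absurd (Finset.mem_univ (π j)) h)] at h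
      · simp only [LinearEquiv.apply_symm_apply, Pi.single_eq_same] at h
        rw [show beta (hd (π j)) b (e0 D v (π (π j))) = beta ((hd j).symm hc) b s from ?_] at h
        · exact h
        · have gen : ∀ k (h : Dual σ (P (π j)) (P k)), π (π j) = k →
              beta (hd (π j)) b (e0 D v (π (π j))) = beta h b (e0 D v k) := by
            intro k h hk; subst hk; rfl
          exact gen j _ (hπ j)
      · simp only [LinearEquiv.apply_symm_apply, Pi.single_eq_of_ne hi, map_zero, LinearMap.zero_apply, mul_zero]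
      · have hne : π i ≠ π j := fun e => hi (by rw [← hπ i, e, hπ j])
        simp only [LinearEquiv.apply_symm_apply, Pi.single_eq_of_ne hne, map_zero, mul_zero]
    by_cases hj : π j = j
    · have gen : ∀ k (h1 : Dual σ (P j) (P k)) (h2 : Dual σ (P k) (P j)), k = j → a j = θ j →
          (∀ b, a j * beta h1 s b + σ (a k * beta h2 b s) = 0) → s = 0 := by
        intro k h1 h2 hk ha h
        subst hk
        rw [ha] at h
        exact hθ _ h1 s h
      exact gen (π j) (hd j) _ hj (by simp [a, hj]) key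
    · have hj' : π (π j) ≠ π j := by rw [hπ]; exact Ne.symm hj
      rcases lt_or_gt_of_ne (fun h => hj (E.injective h).symm : E j ≠ E (π j)) with h | h
      · refine beta_left hc (hd j) fun b => ?_
        have := key b
        simpa [a, hj, hj', hπ, h, h.not_gt, Ne.symm hj] using this
      · refine beta_right hc ((hd j).symm hc) fun b => ?_
        have := key b
        simpa [a, hj, hj', hπ, h, h.not_gt, Ne.symm hj] using this
  · refine hinv _ (fun j => Ideal.Quotient.mk _ X) (fun v j => ?_) fun j => ?_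
    · rw [e0_X, Pi.smul_apply, mk_X_smul]
    · rw [tau_X, mul_comm, X_mul_xinv (hd j).coeff0']
  · intro i hi y hy
    obtain ⟨j₀, hj₀⟩ : ∃ j, D.e j = (i : ℕ) + 1 := by
      by_contra hno
      push Not at hno
      rw [tup, Finset.prod_eq_one fun j hj => absurd (Finset.mem_filter.1 hj).2 (hno j), natDegree_one] at hi
      exact lt_irrefl 0 hi
    obtain ⟨w, hw0, hw⟩ := hc.exists_div_eq hy
    obtain ⟨z, hz, hzn⟩ := exists_unit_norm (D.monic j₀) (D.irr j₀) (D.e j₀) hw0
    obtain ⟨z, rfl⟩ := hz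
    let b₀ : Q (P (π j₀)) := tau (hd j₀) ((z⁻¹ : (Q (P j₀))ˣ) : Q (P j₀))
    let mA : ∀ j, Q (P j) := Function.update 1 j₀ (z : Q (P j₀))
    let mB : ∀ j, Q (P j) := Function.update 1 (π j₀) b₀
    have hAB : ∀ j, tau (hd j) (mA j) * mB (π j) = 1 := by
      intro j
      by_cases hj : j = j₀
      · subst hj
        simp only [mA, mB, b₀, Function.update_self]
        rw [← map_mul, Units.mul_inv, map_one]
      · have hne : π j ≠ π j₀ := fun e => hj (by rw [← hπ j, e, hπ])
        simp only [mA, mB, Function.update_of_ne hj, Function.update_of_ne hne, Pi.one_apply, map_one, one_mul]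
    have hBA : ∀ j, tau (hd j) (mB j) * mA (π j) = 1 := by
      intro l
      obtain ⟨j, rfl⟩ : ∃ j, π j = l := ⟨π l, hπ l⟩
      have h := congrArg (tau (hd (π j))) (hAB j)
      rw [map_mul, map_one, mul_comm] at h
      have gen : ∀ k (h' : Dual σ (P (π j)) (P k)), j = k → tau h' (tau (hd j) (mA j)) = mA k := by
        intro k h' hk; subst hk; exact tau_tau hc _ _ _
      rwa [gen (π (π j)) (hd (π j)) (hπ j).symm] at h
    let m : ∀ j, Q (P j) := fun j => mA j * mB j
    let T : (∀ j, Q (P j)) →ₗ[F] ∀ j, Q (P j) :=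
      LinearMap.pi fun j => (LinearMap.mulLeft F (m j)).comp (LinearMap.proj j)
    let Z : Module.End F (Fin n → F) := (e0 D).symm.toLinearMap ∘ₗ T ∘ₗ (e0 D).toLinearMap
    have hZ : ∀ v j, e0 D (Z v) j = m j * e0 D v j := fun v j => by
      simp only [Z, LinearMap.coe_comp, LinearEquiv.coe_coe, Function.comp_apply, LinearEquiv.apply_symm_apply]
      rfl
    refine ⟨Z, fun v => (e0 D).injective (funext fun j => ?_), hinv Z m hZ fun j => ?_, ?_⟩
    · rw [hZ, e0_X, e0_X, Pi.smul_apply, Pi.smul_apply, hZ, mk_X_smul, mk_X_smul, mul_left_comm]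
    · simp only [m, map_mul]
      linear_combination (tau (hd j) (mB j) * mA (π j)) * hAB j + hBA j
    · haveI : ∀ j, Module.Finite F (Q (P j)) := fun j => finite_Q ((D.monic j).pow _)
      rw [show Z = (e0 D).symm.toLinearMap ∘ₗ T ∘ₗ (e0 D).symm.symm.toLinearMap from rfl, LinearMap.det_conj,
        show LinearMap.det T = ∏ j, Algebra.norm F (m j) from det_pi' _]
      simp only [m, map_mul, Finset.prod_mul_distrib]
      rw [Finset.prod_eq_single j₀ (fun j _ hj => by simp [mA, Function.update_of_ne hj]) (by simp),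
        Finset.prod_eq_single (π j₀) (fun j _ hj => by simp [mB, Function.update_of_ne hj]) (by simp)]
      simp only [mA, mB, b₀, Function.update_self]
      rw [norm_tau hc, ← hj₀]
      have hinvz : Algebra.norm F ((z⁻¹ : (Q (P j₀))ˣ) : Q (P j₀)) = (w ^ D.e j₀)⁻¹ :=
        eq_inv_of_mul_eq_one_left (by rw [← hzn, ← map_mul, Units.inv_mul, map_one])
      rw [hzn, hinvz, map_inv₀, map_pow]
      have hσw : σ w ≠ 0 := (map_ne_zero σ).2 hw0
      calc w ^ D.e j₀ * (σ w ^ D.e j₀)⁻¹ = (y * σ w) ^ D.e j₀ * (σ w ^ D.e j₀)⁻¹ := by rw [← hw]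
        _ = y ^ D.e j₀ := by rw [mul_pow, mul_assoc, mul_inv_cancel₀ (pow_ne_zero _ hσw), mul_one]

/-- Isometries of the standard form have symmetric kernels. -/
theorem symm_of_isometry (hc : IsConjugation σ) (g : isomGroup (stdHerm σ n))
    (hg : ∀ v, Matrix.toLin' A v = g.1 v) : Symm σ A := by
  intro p hp h0 k
  have e : ∀ r : F[X], Nat.card {v : Fin n → F // aeval (Matrix.toLin' A) r v = 0} =
      Nat.card F ^ Module.finrank F (LinearMap.ker (aeval (Matrix.toLin' A) r)) := fun r => by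
    rw [← Module.natCard_eq_pow_finrank (K := F) (V := LinearMap.ker (aeval (Matrix.toLin' A) r))]
    exact Nat.card_congr (Equiv.refl _)
  rw [e, e, ← star_pow, finrank_ker_star hc (stdHerm_sepRight n) _ g.1.symm.toLinearMap
    (LinearMap.ext fun v => (hg _).trans (g.1.apply_symm_apply v))
    (LinearMap.ext fun v => (congrArg g.1.symm (hg v)).trans (g.1.symm_apply_apply v))
    (fun u v => by rw [hg, hg]; exact g.2 u v) (hp.pow k) (by rw [coeff_zero_pow]; exact pow_ne_zero _ h0)]

theorem exists_similar_isometry (hc : IsConjugation σ) (hA : IsUnit A) (hsym : Symm σ A) :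
    ∃ (g : isomGroup (stdHerm σ n)) (e : (Fin n → F) ≃ₗ[F] (Fin n → F)),
      ∀ v, e (Matrix.toLin' A v) = g.1 (e v) := by
  obtain ⟨D⟩ := exists_decomp A
  obtain ⟨H, hH, hN, hinv, -⟩ := exists_model hc hA hsym D
  obtain ⟨e, he⟩ := hH.exists_isometry (stdHerm_isHermitian hc n) hN (stdHerm_sepRight n) rfl
  have hdet : LinearMap.det (Matrix.toLin' A) ≠ 0 := by
    rw [LinearMap.det_toLin']; exact ((Matrix.isUnit_iff_isUnit_det A).1 hA).ne_zero
  let eA := LinearMap.equivOfDetNeZero _ hdet
  refine ⟨⟨(e.symm.trans eA).trans e, fun v w => ?_⟩, e, fun v => ?_⟩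
  · show stdHerm σ n (e (Matrix.toLin' A (e.symm v))) (e (Matrix.toLin' A (e.symm w))) = _
    rw [he, hinv, ← he, e.apply_symm_apply, e.apply_symm_apply]
  · show e (Matrix.toLin' A v) = e (Matrix.toLin' A (e.symm (e v)))
    rw [e.symm_apply_apply]

theorem exists_centralizer_isometry (hc : IsConjugation σ) (g : isomGroup (stdHerm σ n))
    (hg : ∀ v, Matrix.toLin' A v = g.1 v) (D : Decomp A) {i : Fin n} (hi : 0 < (tup D i).natDegree) {y : F}
    (hy : y * σ y = 1) :
    ∃ z : isomGroup (stdHerm σ n), z * g = g * z ∧ LinearMap.det (z.1 : Module.End F (Fin n → F)) = y ^ ((i : ℕ) + 1) := by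
  have hxs : Function.Surjective (Matrix.toLin' A) := fun v => ⟨g.1.symm v, by rw [hg, g.1.apply_symm_apply]⟩
  have hA : IsUnit A := Matrix.mulVec_injective_iff_isUnit.1 fun v w h => g.1.injective (by
    rw [← hg, ← hg]; exact h)
  obtain ⟨H, hH, hN, hinv, hcen⟩ := exists_model hc hA (symm_of_isometry hc g hg) D
  obtain ⟨Z, hZA, hZH, hZd⟩ := hcen i hi y hy
  obtain ⟨u, hu, hux⟩ := exists_isometry_intertwine (stdHerm_isHermitian hc n) hH (stdHerm_sepRight n) hN
    (Matrix.toLin' A) (Matrix.toLin' A) hxs hinv (fun a b => by rw [hg, hg]; exact g.2 a b)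
    (LinearEquiv.refl F _) (fun v => rfl)
  have hy0 : y ≠ 0 := fun h => by rw [h, zero_mul] at hy; exact zero_ne_one hy
  let eZ := LinearMap.equivOfDetNeZero Z (by rw [hZd]; exact pow_ne_zero _ hy0)
  refine ⟨⟨(u.symm.trans eZ).trans u, fun v w => ?_⟩, Subtype.ext (LinearEquiv.ext fun v => ?_), ?_⟩
  · show stdHerm σ n (u (Z (u.symm v))) (u (Z (u.symm w))) = _
    rw [hu, hZH, ← hu, u.apply_symm_apply, u.apply_symm_apply]
  · show u (Z (u.symm (g.1 v))) = g.1 (u (Z (u.symm v)))
    rw [← hg, ← hg, ← hux, ← hZA]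
    congr 2
    rw [LinearEquiv.symm_apply_eq, hux, u.apply_symm_apply]
  · rw [show (((u.symm.trans eZ).trans u : (Fin n → F) ≃ₗ[F] (Fin n → F)) : Module.End F (Fin n → F)) =
      u.toLinearMap ∘ₗ Z ∘ₗ u.symm.toLinearMap from rfl, LinearMap.det_conj, hZd]

end CfsgLib.ClassNumberSU
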