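import Cfsg.Agent.Lib.Classical.HermBasic

/-!
Similar isometries of non-degenerate Hermitian forms over finite fields are similar by an isometry.
-/

set_option autoImplicit false
set_option linter.unusedSectionVars false

namespace CfsgLib.ClassNumberSU

open Module CfsgLib.Classical

section Ring

variable {R : Type*} [CommRing R]

/-- The binary quadratic form `a ^ 2 + s a b + ν b ^ 2`. -/
def quad (s ν a b : R) : R := a ^ 2 + s * a * b + ν * b ^ 2

theorem quad_mul (s ν a b c d : R) :
    quad s ν a b * quad s ν c d = quad s ν (a * c - ν * b * d) (a * d + b * c + s * b * d) := by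
  unfold quad; ring

theorem exists_quad_field {K : Type*} [Field K] [Finite K] (s ν u : K) (hd : s ^ 2 - 4 * ν ≠ 0) :
    ∃ a b, quad s ν a b = u := by
  haveI := Fintype.ofFinite K
  by_cases h2 : (2 : K) = 0
  · have hc : ringChar K = 2 := by
      refine ((Nat.dvd_prime Nat.prime_two).1 ((ringChar.spec K 2).1 (by exact_mod_cast h2))).resolve_left ?_
      have := ringChar.charP K
      exact CharP.ringChar_ne_one
    obtain ⟨a, ha⟩ := FiniteField.isSquare_of_char_two hc u
    exact ⟨a, 0, by rw [quad, ha]; ring⟩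
  · have hc : ringChar K ≠ 2 := fun h => h2 (by
      have := (ringChar.spec K 2).2 (by rw [h])
      exact_mod_cast this)
    have hf : (Polynomial.X ^ 2 : Polynomial K).degree = 2 := Polynomial.degree_X_pow 2
    have hc0 : -(s ^ 2 - 4 * ν) / 4 ≠ 0 := div_ne_zero (neg_ne_zero.2 hd) (by
      intro h; exact h2 (mul_self_eq_zero.1 (by linear_combination h)))
    have hg : (Polynomial.C (-(s ^ 2 - 4 * ν) / 4) * Polynomial.X ^ 2 - Polynomial.C u).degree = 2 := by
      rw [Polynomial.degree_sub_eq_left_of_degree_lt]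
      · exact Polynomial.degree_C_mul_X_pow 2 hc0
      · rw [Polynomial.degree_C_mul_X_pow 2 hc0]
        exact lt_of_le_of_lt Polynomial.degree_C_le (by norm_num)
    obtain ⟨a, b, hab⟩ := FiniteField.exists_root_sum_quadratic hf hg (FiniteField.odd_card_of_char_ne_two hc)
    simp only [Polynomial.eval_pow, Polynomial.eval_X, Polynomial.eval_sub, Polynomial.eval_mul,
      Polynomial.eval_C] at hab
    refine ⟨a - s * b / 2, b, ?_⟩
    have h4 : (4 : K) = 2 * 2 := by norm_num
    rw [h4] at hab
    unfold quad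
    field_simp at hab ⊢
    linear_combination hab

theorem exists_quad_one_add (s ν : R) (hd : IsUnit (s ^ 2 - 4 * ν)) :
    ∀ k, ∀ m : R, m ^ (2 ^ k) = 0 → ∃ a b, quad s ν a b = 1 + m := by
  intro k
  induction k with
  | zero =>
    intro m hm
    rw [pow_zero, pow_one] at hm
    exact ⟨1, 0, by rw [hm, quad]; ring⟩
  | succ k ih =>
    intro m hm
    obtain ⟨d, hd⟩ := hd.exists_right_inv
    set a := -2 * ν * d with ha
    set b := s * d with hb
    have h1 : quad s ν (1 + a * m) (b * m) = 1 + m + quad s ν a b * m ^ 2 := by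
      have : 2 * a + s * b = 1 := by rw [ha, hb]; linear_combination hd
      unfold quad
      linear_combination m * this
    have hnil : IsNilpotent m := ⟨_, hm⟩
    have hu : IsUnit (1 + m + quad s ν a b * m ^ 2) := by
      rw [show 1 + m + quad s ν a b * m ^ 2 = 1 + (1 + quad s ν a b * m) * m by ring]
      exact (Commute.isNilpotent_mul_left (Commute.all _ _) hnil).isUnit_one_add
    obtain ⟨v, hv⟩ := hu.exists_right_inv
    obtain ⟨c, d', hcd⟩ := ih (-(quad s ν a b * v) * m ^ 2) (by
      rw [mul_pow, ← pow_mul, ← pow_succ', hm, mul_zero])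
    refine ⟨_, _, (quad_mul s ν (1 + a * m) (b * m) c d').symm.trans ?_⟩
    rw [hcd, h1]
    linear_combination -(quad s ν a b * m ^ 2) * hv

/-- Units of a finite commutative ring are values of a quadratic form with unit discriminant. -/
theorem exists_quad [Finite R] (s ν u : R) (hd : IsUnit (s ^ 2 - 4 * ν)) (hu : IsUnit u) :
    ∃ a b, quad s ν a b = u := by
  classical
  let E := IsArtinianRing.quotNilradicalEquivPi R
  have hloc : ∀ I : MaximalSpectrum R, ∃ a b : R ⧸ I.asIdeal,
      quad (E (Ideal.Quotient.mk _ s) I) (E (Ideal.Quotient.mk _ ν) I) a b = E (Ideal.Quotient.mk _ u) I := by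
    intro I
    haveI := I.isMaximal
    letI := Ideal.Quotient.field I.asIdeal
    haveI : Finite (R ⧸ I.asIdeal) := Finite.of_surjective _ Ideal.Quotient.mk_surjective
    refine exists_quad_field _ _ _ ?_
    have h := (((hd.map (Ideal.Quotient.mk (nilradical R))).map E).map
      (Pi.evalRingHom (fun I : MaximalSpectrum R => R ⧸ I.asIdeal) I)).ne_zero
    simpa [map_ofNat] using h
  choose a b hab using hloc
  obtain ⟨a', ha⟩ := Ideal.Quotient.mk_surjective (E.symm a)
  obtain ⟨b', hb⟩ := Ideal.Quotient.mk_surjective (E.symm b)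
  have hnil : IsNilpotent (quad s ν a' b' - u) := by
    rw [← mem_nilradical, ← Ideal.Quotient.eq_zero_iff_mem]
    apply E.injective
    funext I
    have hea : E (E.symm a) = a := E.apply_symm_apply a
    have heb : E (E.symm b) = b := E.apply_symm_apply b
    simp only [quad, map_sub, map_add, map_mul, map_pow, ha, hb, hea, heb, map_zero,
      Pi.sub_apply, Pi.add_apply, Pi.mul_apply, Pi.pow_apply, Pi.zero_apply]
    have := hab I
    unfold quad at this
    rw [this, sub_self]
  have hq : IsUnit (quad s ν a' b') := by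
    have := hnil.isUnit_add_right_of_commute hu (Commute.all _ _)
    simpa using this
  obtain ⟨v, hv⟩ := hq.exists_right_inv
  obtain ⟨k, hk⟩ : IsNilpotent (-(quad s ν a' b' - u) * v) :=
    Commute.isNilpotent_mul_right (Commute.all _ _) hnil.neg
  obtain ⟨c, d, hcd⟩ := exists_quad_one_add s ν hd k _ (pow_eq_zero_of_le Nat.lt_two_pow_self.le hk)
  refine ⟨_, _, (quad_mul s ν a' b' c d).symm.trans ?_⟩
  rw [hcd]
  linear_combination (u - quad s ν a' b') * hv

end Ring

variable {F : Type*} [Field F] [Finite F] {σ : F →+* F} {V : Type*} [AddCommGroup V] [Module F V]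
  [FiniteDimensional F V] {B C : V →ₛₗ[σ] V →ₗ[F] F}

/-- Two forms preserved by `x` differ by an automorphism commuting with `x`. -/
theorem exists_commute_isometry (hB : IsHermitian B) (hC : IsHermitian C) (hNB : B.SeparatingRight)
    (hNC : C.SeparatingRight) (x : Module.End F V) (hxs : Function.Surjective x)
    (hxB : ∀ u v, B (x u) (x v) = B u v) (hxC : ∀ u v, C (x u) (x v) = C u v) :
    ∃ a : V ≃ₗ[F] V, (∀ v, a (x v) = x (a v)) ∧ ∀ v w, B (a v) (a w) = C v w := by
  classical
  haveI : Finite V := Module.finite_of_finite F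
  haveI : Finite (Module.End F V) := Finite.of_injective _ DFunLike.coe_injective
  obtain ⟨b, hb⟩ := hB.exists_orthonormal hNB
  let t : Module.End F V :=
    { toFun := fun w => ∑ i, C (b i) w • b i
      map_add' := fun v w => by simp [add_smul, Finset.sum_add_distrib]
      map_smul' := fun c w => by simp [Finset.smul_sum, smul_smul] }
  have ht : ∀ v w, B v (t w) = C v w := by
    intro v w
    have e : ∀ j, B (b j) (t w) = C (b j) w := fun j => by simp [t, hb]
    rw [← b.sum_repr v]
    simp only [map_sum, map_smulₛₗ, LinearMap.sum_apply, LinearMap.smul_apply, e]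
  have hinjB : ∀ {p r : V}, (∀ v, B v p = B v r) → p = r := fun {p r} h =>
    sub_eq_zero.1 (hNB _ fun v => by rw [map_sub, h, sub_self])
  have htx : Commute t x := LinearMap.ext fun w => hinjB fun v => by
    obtain ⟨v, rfl⟩ := hxs v
    show B (x v) (t (x w)) = B (x v) (x (t w))
    rw [ht, hxC, hxB, ht]
  have hts : ∀ v w, B (t v) w = B v (t w) := fun v w => by
    rw [← hB.symm w (t v), ht, hC.symm, ← ht]
  obtain ⟨ω, hω⟩ := hB.conj.exists_not_fixed
  let S : Set (Module.End F V) := insert t {r | ∃ c : F, σ c = c ∧ r = c • 1}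
  have hS : ∀ p ∈ S, ∀ r ∈ S, p * r = r * p := by
    intro p hp r hr
    rcases Set.mem_insert_iff.1 hp with rfl | ⟨c, -, rfl⟩ <;>
      rcases Set.mem_insert_iff.1 hr with rfl | ⟨d, -, rfl⟩ <;> simp [smul_smul, mul_comm]
  letI := Subring.closureCommRingOfComm hS
  have hscal : ∀ c : F, σ c = c → c • (1 : Module.End F V) ∈ Subring.closure S := fun c hc =>
    Subring.subset_closure (Set.mem_insert_of_mem _ ⟨c, hc, rfl⟩)
  have hgood : ∀ r ∈ Subring.closure S, Commute r x ∧ ∀ v w, B (r v) w = B v (r w) := by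
    intro r hr
    induction hr using Subring.closure_induction with
    | mem r hr =>
      rcases Set.mem_insert_iff.1 hr with rfl | ⟨c, hc, rfl⟩
      · exact ⟨htx, hts⟩
      · exact ⟨(Commute.one_left x).smul_left c, fun v w => by simp [hc]⟩
    | zero => exact ⟨Commute.zero_left x, fun v w => by simp⟩
    | one => exact ⟨Commute.one_left x, fun v w => by simp⟩
    | add p r _ _ hp hr => exact ⟨hp.1.add_left hr.1, fun v w => by simp [hp.2, hr.2]⟩
    | neg p _ hp => exact ⟨hp.1.neg_left, fun v w => by simp [hp.2]⟩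
    | mul p r hp' hr' hp hr =>
      refine ⟨hp.1.mul_left hr.1, fun v w => ?_⟩
      have hpr : p * r = r * p := congrArg Subtype.val (mul_comm (⟨p, hp'⟩ : Subring.closure S) ⟨r, hr'⟩)
      show B (p (r v)) w = B v ((p * r) w)
      rw [hp.2, hr.2, hpr]
      rfl
  let s : Subring.closure S := ⟨(ω + σ ω) • 1, hscal _ (by rw [map_add, hB.conj.invol, add_comm])⟩
  let ν : Subring.closure S := ⟨(ω * σ ω) • 1, hscal _ (hB.conj.norm_fixed ω)⟩
  let u : Subring.closure S := ⟨t, Subring.subset_closure (Set.mem_insert _ _)⟩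
  have hd : IsUnit (s ^ 2 - 4 * ν) := by
    set δ := (ω - σ ω) ^ 2 with hδ
    have hδ0 : δ ≠ 0 := pow_ne_zero _ (sub_ne_zero.2 (Ne.symm hω))
    refine IsUnit.of_mul_eq_one (⟨δ⁻¹ • 1, hscal _ ?_⟩ : Subring.closure S) (Subtype.ext ?_)
    · rw [map_inv₀, hδ, map_pow, map_sub, hB.conj.invol]
      ring
    · have h4 : ((4 : Subring.closure S) : Module.End F V) = (4 : F) • 1 := by
        rw [← Algebra.algebraMap_eq_smul_one, map_ofNat]; rfl
      push_cast
      simp only [s, ν, h4, pow_two, smul_mul_assoc, one_mul, mul_smul_comm, mul_one, smul_smul, ← sub_smul]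
      rw [show δ⁻¹ * ((ω + σ ω) * (ω + σ ω) - ω * σ ω * 4) = 1 from by
        rw [show (ω + σ ω) * (ω + σ ω) - ω * σ ω * 4 = δ by rw [hδ]; ring, inv_mul_cancel₀ hδ0], one_smul]
  have hu : IsUnit u := by
    have hinj : Function.Injective (fun r : Subring.closure S => u * r) := by
      intro p r h
      refine Subtype.ext (LinearMap.ext fun v => ?_)
      have hti : Function.Injective t := (injective_iff_map_eq_zero t).2 fun w hw => hNC w fun v => by
        rw [← ht, hw, map_zero]
      exact hti (LinearMap.congr_fun (congrArg Subtype.val h) v)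
    obtain ⟨r, hr⟩ := (Finite.injective_iff_surjective.1 hinj) 1
    exact IsUnit.of_mul_eq_one r hr
  obtain ⟨c₀, c₁, hc⟩ := exists_quad s ν u hd hu
  have hc' : ∀ w, t w = (c₀.1 * c₀.1) w + (ω + σ ω) • (c₀.1 * c₁.1) w + (ω * σ ω) • (c₁.1 * c₁.1) w := by
    intro w
    rw [show t = ((quad s ν c₀ c₁ : Subring.closure S) : Module.End F V) from (congrArg Subtype.val hc).symm,
      quad]
    push_cast
    simp [s, ν, pow_two]
  let a : Module.End F V := c₀.1 + ω • c₁.1
  have ha : ∀ v w, B (a v) (a w) = C v w := by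
    intro v w
    have hcomm : c₁.1 * c₀.1 = c₀.1 * c₁.1 := congrArg Subtype.val (mul_comm c₁ c₀)
    have e1 : B (c₀.1 v) (c₁.1 w) = B v ((c₀.1 * c₁.1) w) := (hgood _ c₀.2).2 _ _
    have e2 : B (c₁.1 v) (c₀.1 w) = B v ((c₀.1 * c₁.1) w) := by
      rw [(hgood _ c₁.2).2, ← hcomm]; rfl
    have e3 : B (c₁.1 v) (c₁.1 w) = B v ((c₁.1 * c₁.1) w) := (hgood _ c₁.2).2 _ _
    have e4 : B (c₀.1 v) (c₀.1 w) = B v ((c₀.1 * c₀.1) w) := (hgood _ c₀.2).2 _ _
    rw [← ht, hc' w]
    simp only [a, LinearMap.add_apply, LinearMap.smul_apply, map_add, map_smul, map_smulₛₗ, e1, e2, e3, e4,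
      RingHom.id_apply, smul_eq_mul]
    ring
  have hainj : Function.Injective a := (injective_iff_map_eq_zero a).2 fun w hw => hNC w fun v => by
    rw [← ha, hw, map_zero]
  refine ⟨LinearEquiv.ofInjectiveEndo a hainj, fun v => ?_, ha⟩
  exact LinearMap.congr_fun (((hgood _ c₀.2).1.add_left ((hgood _ c₁.2).1.smul_left ω)).eq) v

/-- Similar isometries are similar by an isometry. -/
theorem exists_isometry_intertwine {V' : Type*} [AddCommGroup V'] [Module F V'] [FiniteDimensional F V']
    {B' : V' →ₛₗ[σ] V' →ₗ[F] F} (hB : IsHermitian B) (hB' : IsHermitian B') (hNB : B.SeparatingRight)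
    (hNB' : B'.SeparatingRight) (x : Module.End F V') (y : Module.End F V) (hxs : Function.Surjective x)
    (hx : ∀ u v, B' (x u) (x v) = B' u v) (hy : ∀ u v, B (y u) (y v) = B u v)
    (e : V' ≃ₗ[F] V) (he : ∀ v, e (x v) = y (e v)) :
    ∃ u : V' ≃ₗ[F] V, (∀ v w, B (u v) (u w) = B' v w) ∧ ∀ v, u (x v) = y (u v) := by
  let C' : V' →ₛₗ[σ] V' →ₗ[F] F := LinearMap.mk₂'ₛₗ σ (RingHom.id F) (fun v w => B (e v) (e w))
    (fun v v' w => by simp) (fun c v w => by simp) (fun v w w' => by simp) (fun c v w => by simp)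
  have hC' : ∀ v w, C' v w = B (e v) (e w) := fun v w => rfl
  obtain ⟨a, hax, ha⟩ := exists_commute_isometry hB' ⟨hB.conj, fun v w => hB.symm _ _⟩ hNB'
    (C := C') (fun w hw => e.injective ((hNB (e w) fun v => by
      rw [← e.apply_symm_apply v, ← hC']; exact hw _).trans (map_zero e).symm))
    x hxs hx (fun u v => by rw [hC', hC', he, he, hy])
  refine ⟨a.symm.trans e, fun v w => ?_, fun v => ?_⟩
  · rw [LinearEquiv.trans_apply, LinearEquiv.trans_apply, ← hC', ← ha, a.apply_symm_apply, a.apply_symm_apply]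
  · rw [LinearEquiv.trans_apply, LinearEquiv.trans_apply, ← he]
    refine congrArg e ((a.symm_apply_eq).2 ?_)
    rw [hax, a.apply_symm_apply]

end CfsgLib.ClassNumberSU
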