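import Cfsg.Agent.Lib.KnownA.ClassNumberSU.Star
import Cfsg.Agent.Lib.KnownA.ClassNumberSL.Count

/-!
Counting tuples of polynomials fixed by the conjugate reciprocal.
-/

set_option autoImplicit false
set_option linter.unusedSectionVars false

namespace CfsgLib.ClassNumberSU

open Polynomial Finset CfsgLib.Classical CfsgLib.ClassNumberSL

/-- Number of monic polynomials of degree `d` fixed by `star`. -/
def wtU (q : ℕ) : ℕ → ℕ
  | 0 => 1
  | (d + 1) => (q + 1) * q ^ d

/-- Weighted count of fixed tuples. -/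
def G (q : ℕ) : ℕ → ℕ → ℕ
  | 0, n => if n = 0 then 1 else 0
  | (m + 1), n => ∑ d ∈ range (n / (m + 1) + 1), wtU q d * G q m (n - (m + 1) * d)

/-- The bound for the weighted count. -/
def E (q n : ℕ) : ℕ := G q n n + ∑ d ∈ dset (q + 2) n, (d ^ 2 - 1) * G q (n / d) (n / d)

variable {F : Type*} [Field F] {σ : F →+* F}

/-- A monic polynomial fixed by `star`. -/
def Good (σ : F →+* F) (P : F[X]) : Prop := P.Monic ∧ P.coeff 0 ≠ 0 ∧ star σ P = P

/-- Fixed polynomials of degree `d`. -/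
abbrev SPol (σ : F →+* F) (d : ℕ) := {P : F[X] // Good σ P ∧ P.natDegree = d}

/-- Fixed tuples. -/
abbrev STup (σ : F →+* F) (m n : ℕ) :=
  {b : Fin m → F[X] // (∀ i, Good σ (b i)) ∧ ∑ i : Fin m, ((i : ℕ) + 1) * (b i).natDegree = n}

theorem mem_normKer {x : Fˣ} : x ∈ (normHom σ).ker ↔ (x : F) * σ x = 1 := by
  rw [MonoidHom.mem_ker, Units.ext_iff, CfsgLib.Classical.normHom_apply, Units.val_one]

/-- The constant coefficient of a fixed polynomial as a norm one element. -/
noncomputable def c0 {P : F[X]} (h : Good σ P) : (normHom σ).ker :=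
  ⟨Units.mk0 (P.coeff 0) h.2.1, mem_normKer.2 (by
    have h1 := coeff_zero_star (σ := σ) h.1
    rw [h.2.2] at h1
    show P.coeff 0 * σ (P.coeff 0) = 1
    nth_rw 1 [h1]
    exact inv_mul_cancel₀ ((map_ne_zero σ).2 h.2.1))⟩

theorem ev_norm_good {P : F[X]} (h : Good σ P) : ev P * σ (ev P) = 1 := ev_norm h.1 h.2.1 h.2.2

section Field

variable [Fintype F] {q : ℕ} (hc : IsConjugation σ) (hF : Fintype.card F = q ^ 2)
include hc hF

theorem card_fix (k : ℕ) {a₀ : F} (ha : a₀ * σ a₀ = 1) :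
    Nat.card {c : Fin k → F // ∀ i, c i = a₀ * σ (c i.rev)} = q ^ k := by
  classical
  set W := {c : Fin k → F // ∀ i, c i = a₀ * σ (c i.rev)}
  obtain ⟨ω, hω⟩ := hc.exists_not_fixed
  let T : (Fin k → F) → Fin k → F := fun c i => a₀ * σ (c i.rev)
  have hT : ∀ (c : W) i, T c.1 i = c.1 i := fun c i => (c.2 i).symm
  let f : W × W → (Fin k → F) := fun w i => w.1.1 i + ω * w.2.1 i
  have hω' : ω - σ ω ≠ 0 := sub_ne_zero.2 (Ne.symm hω)
  have hinj : Function.Injective f := by
    rintro ⟨a, b⟩ ⟨a', b'⟩ h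
    have hb : ∀ i, b.1 i = b'.1 i := fun i => by
      have h1 : a.1 i + ω * b.1 i = a'.1 i + ω * b'.1 i := congrFun h i
      have h2 := congrArg σ (congrFun h i.rev)
      simp only [f, map_add, map_mul] at h2
      rw [a.2 i, a'.2 i, b.2 i, b'.2 i] at h1
      refine mul_left_cancel₀ hω' ?_
      rw [b.2 i, b'.2 i]
      linear_combination h1 - a₀ * h2
    have ha' : ∀ i, a.1 i = a'.1 i := fun i => by
      have h1 : a.1 i + ω * b.1 i = a'.1 i + ω * b'.1 i := congrFun h i
      linear_combination h1 - ω * hb i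
    exact Prod.ext (Subtype.ext (funext ha')) (Subtype.ext (funext hb))
  have hsurj : Function.Surjective f := by
    intro v
    have hTT : ∀ i, a₀ * σ (T v i.rev) = v i := fun i => by
      simp only [T, Fin.rev_rev, map_mul, hc.invol, ← mul_assoc, ha, one_mul]
    let b : Fin k → F := fun i => (v i - T v i) / (ω - σ ω)
    have hb : ∀ i, b i = a₀ * σ (b i.rev) := fun i => by
      simp only [b, map_div₀, map_sub, hc.invol]
      rw [← mul_div_assoc, mul_sub, hTT i, show a₀ * σ (v i.rev) = T v i from rfl,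
        div_eq_div_iff hω' (sub_ne_zero.2 hω)]
      ring
    let a : Fin k → F := fun i => v i - ω * b i
    have ha' : ∀ i, a i = a₀ * σ (a i.rev) := fun i => by
      have h1 : b i * (ω - σ ω) = v i - T v i := div_mul_cancel₀ _ hω'
      have h2 : a₀ * σ (a i.rev) = T v i - σ ω * (a₀ * σ (b i.rev)) := by
        simp only [a, T, map_sub, map_mul]; ring
      rw [h2, ← hb i]
      linear_combination -h1
    exact ⟨(⟨a, ha'⟩, ⟨b, hb⟩), funext fun i => by simp only [f, a]; ring⟩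
  have hcard := Nat.card_congr (Equiv.ofBijective f ⟨hinj, hsurj⟩)
  rw [Nat.card_prod, Nat.card_eq_fintype_card (α := Fin k → F), Fintype.card_fun, Fintype.card_fin, hF, ← pow_mul,
    mul_comm 2 k, pow_mul, ← pow_two] at hcard
  exact Nat.pow_left_injective two_ne_zero hcard

theorem card_fibre (k : ℕ) (x : (normHom σ).ker) :
    Nat.card {P : SPol σ (k + 1) // c0 P.2.1 = x} = q ^ k := by
  classical
  have ha : ((x : Fˣ) : F) * σ (x : Fˣ) = 1 := mem_normKer.1 x.2
  set a₀ := ((x : Fˣ) : F)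
  rw [← card_fix hc hF k ha]
  have hσa : (σ a₀)⁻¹ = a₀ := inv_eq_of_mul_eq_one_left ha
  have h0 : ∀ P : {P : SPol σ (k + 1) // c0 P.2.1 = x}, P.1.1.coeff 0 = a₀ := fun P =>
    congrArg (fun u : (normHom σ).ker => ((u : Fˣ) : F)) P.2
  refine Nat.card_congr (Equiv.ofBijective (fun P => ⟨fun i => P.1.1.coeff ((i : ℕ) + 1), fun i => ?_⟩) ⟨?_, ?_⟩)
  · have h := coeff_star (σ := σ) (P := P.1.1) (j := (i : ℕ) + 1) (by rw [P.1.2.2]; omega)
    rw [P.1.2.1.2.2, P.1.2.2, h0 P, hσa] at h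
    show P.1.1.coeff ((i : ℕ) + 1) = a₀ * σ (P.1.1.coeff ((i.rev : ℕ) + 1))
    rw [h, Fin.val_rev, show k + 1 - ((i : ℕ) + 1) = k - ((i : ℕ) + 1) + 1 by omega]
  · intro P R h
    refine Subtype.ext (Subtype.ext (Polynomial.ext fun j => ?_))
    rcases eq_or_ne j 0 with rfl | hj
    · rw [h0 P, h0 R]
    obtain ⟨i, rfl⟩ : ∃ i, j = i + 1 := ⟨j - 1, by omega⟩
    rcases lt_trichotomy i k with hi | rfl | hi
    · exact congrFun (congrArg Subtype.val h) ⟨i, hi⟩
    · have h1 := P.1.2.1.1.coeff_natDegree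
      have h2 := R.1.2.1.1.coeff_natDegree
      rw [P.1.2.2] at h1
      rw [R.1.2.2] at h2
      rw [h1, h2]
    · rw [coeff_eq_zero_of_natDegree_lt (by rw [P.1.2.2]; omega),
        coeff_eq_zero_of_natDegree_lt (by rw [R.1.2.2]; omega)]
  · intro c
    let e : {P : F[X] // P.Monic ∧ P.natDegree = k + 1} ≃ (Fin (k + 1) → F) :=
      (Polynomial.monicEquivDegreeLT (k + 1)).trans (Polynomial.degreeLTEquiv F (k + 1)).toEquiv
    have he : ∀ P j, e P j = (P : F[X]).coeff j := by
      intro P j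
      show (Polynomial.eraseLead (P : F[X])).coeff j = _
      rw [Polynomial.eraseLead_coeff_of_ne]
      rw [P.2.2]; exact ne_of_lt j.2
    let P := e.symm (Fin.cons a₀ c.1)
    have hP : ∀ j : Fin (k + 1), (P : F[X]).coeff j = Fin.cons (α := fun _ => F) a₀ c.1 j := fun j => by
      rw [← he, e.apply_symm_apply]
    have hP0 : (P : F[X]).coeff 0 = a₀ := hP 0
    have hPs : ∀ i : Fin k, (P : F[X]).coeff ((i : ℕ) + 1) = c.1 i := fun i => by
      have := hP i.succ
      rwa [Fin.cons_succ, Fin.val_succ] at this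
    have hP0ne : (P : F[X]).coeff 0 ≠ 0 := by rw [hP0]; exact Units.ne_zero _
    have hgood : star σ (P : F[X]) = P := by
      ext j
      rcases lt_or_ge (k + 1) j with hj | hj
      · rw [coeff_eq_zero_of_natDegree_lt (by rw [natDegree_star hP0ne, P.2.2]; exact hj),
          coeff_eq_zero_of_natDegree_lt (by rw [P.2.2]; exact hj)]
      rw [coeff_star (by rw [P.2.2]; exact hj), hP0, hσa, P.2.2]
      have hlead := P.2.1.coeff_natDegree
      rw [P.2.2] at hlead
      rcases eq_or_ne j 0 with rfl | hj0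
      · rw [Nat.sub_zero, hlead, map_one, mul_one, hP0]
      rcases eq_or_ne j (k + 1) with rfl | hjk
      · rw [Nat.sub_self, hP0, ha, hlead]
      obtain ⟨i, rfl⟩ : ∃ i, j = i + 1 := ⟨j - 1, by omega⟩
      have hi : i < k := by omega
      rw [show k + 1 - (i + 1) = ((Fin.rev ⟨i, hi⟩ : Fin k) : ℕ) + 1 by rw [Fin.val_rev]; simp only; omega, hPs]
      exact ((c.2 ⟨i, hi⟩).symm.trans (hPs ⟨i, hi⟩).symm)
    exact ⟨⟨⟨P, ⟨P.2.1, hP0ne, hgood⟩, P.2.2⟩, Subtype.ext (Units.ext hP0)⟩, Subtype.ext (funext hPs)⟩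

theorem exists_param (k : ℕ) :
    ∃ e : SPol σ (k + 1) ≃ (normHom σ).ker × Fin (q ^ k), ∀ P, (e P).1 = c0 P.2.1 := by
  have h := fun x : (normHom σ).ker => card_fibre hc hF k x
  have hpos : q ^ k ≠ 0 := by
    have := two_le_of_card_sq hF
    exact pow_ne_zero _ (by omega)
  have hfin : ∀ x, Finite {P : SPol σ (k + 1) // c0 P.2.1 = x} := fun x => Nat.finite_of_card_ne_zero (by rw [h]; exact hpos)
  exact ⟨((Equiv.sigmaFiberEquiv _).symm.trans
    (Equiv.sigmaCongrRight fun x => Finite.equivFinOfCardEq (h x))).trans (Equiv.sigmaEquivProd _ _), fun P => rfl⟩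

theorem card_spol (hσ : ∀ x, σ x = x ^ q) (d : ℕ) :
    Finite (SPol σ d) ∧ Nat.card (SPol σ d) ≤ wtU q d := by
  cases d with
  | zero =>
    have hs : Subsingleton (SPol σ 0) := ⟨fun a b => Subtype.ext (by
      rw [eq_one_of_monic_natDegree_zero a.2.1.1 a.2.2, eq_one_of_monic_natDegree_zero b.2.1.1 b.2.2])⟩
    exact ⟨Finite.of_subsingleton, Finite.card_le_one_iff_subsingleton.mpr hs⟩
  | succ k =>
    obtain ⟨e, -⟩ := exists_param hc hF k
    refine ⟨Finite.of_equiv _ e.symm, le_of_eq ?_⟩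
    rw [Nat.card_congr e, Nat.card_prod, Nat.card_fin, (frob_cards hF hσ hc).2, wtU]

theorem card_stup (hσ : ∀ x, σ x = x ^ q) (m : ℕ) :
    ∀ n, Finite (STup σ m n) ∧ Nat.card (STup σ m n) ≤ G q m n := by
  classical
  induction m with
  | zero =>
    intro n
    have hs : Subsingleton (STup σ 0 n) := ⟨fun a b => Subtype.ext (_root_.funext fun i => i.elim0)⟩
    refine ⟨Finite.of_subsingleton, ?_⟩
    rcases Nat.eq_zero_or_pos n with rfl | hn
    · simpa [G] using Finite.card_le_one_iff_subsingleton.mpr hs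
    · have : IsEmpty (STup σ 0 n) := ⟨fun a => by have := a.2.2; simp at this; omega⟩
      simp [Nat.card_of_isEmpty]
  | succ m ih =>
    intro n
    let S := Σ d : Fin (n / (m + 1) + 1), SPol σ d × STup σ m (n - (m + 1) * d)
    have hsum : ∀ b : STup σ (m + 1) n, (∑ i : Fin m, ((i : ℕ) + 1) * (b.1 i.castSucc).natDegree) +
        (m + 1) * (b.1 (Fin.last m)).natDegree = n := fun b => by
      have h := b.2.2
      rwa [Fin.sum_univ_castSucc] at h
    let g : STup σ (m + 1) n → S := fun b =>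
      ⟨⟨(b.1 (Fin.last m)).natDegree, by
          rw [Nat.lt_succ_iff, Nat.le_div_iff_mul_le (Nat.succ_pos m)]
          rw [mul_comm, Nat.succ_eq_add_one]; have := hsum b; omega⟩,
        ⟨b.1 (Fin.last m), b.2.1 _, rfl⟩,
        ⟨fun i => b.1 i.castSucc, fun i => b.2.1 _, by have := hsum b; simp only []; omega⟩⟩
    have hg : Function.Injective g := by
      intro a b h
      have h1 : a.1 (Fin.last m) = b.1 (Fin.last m) := congrArg (fun x : S => x.2.1.1) h
      have h2 : (fun i : Fin m => a.1 i.castSucc) = fun i => b.1 i.castSucc :=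
        congrArg (fun x : S => x.2.2.1) h
      exact Subtype.ext (_root_.funext fun i => Fin.lastCases h1 (fun j => congrFun h2 j) i)
    have : ∀ d : Fin (n / (m + 1) + 1), Finite (SPol σ d) := fun d => (card_spol hc hF hσ _).1
    have : ∀ d : Fin (n / (m + 1) + 1), Finite (STup σ m (n - (m + 1) * d)) := fun d => (ih _).1
    refine ⟨Finite.of_injective g hg, (Nat.card_le_card_of_injective g hg).trans ?_⟩
    rw [Nat.card_sigma]
    show _ ≤ ∑ d ∈ range (n / (m + 1) + 1), wtU q d * G q m (n - (m + 1) * d)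
    rw [← Fin.sum_univ_eq_sum_range]
    refine sum_le_sum fun d _ => ?_
    rw [Nat.card_prod]
    exact Nat.mul_le_mul (card_spol hc hF hσ _).2 (ih _).2

theorem exists_twist : ∃ tw : F[X] → (normHom σ).ker → F[X],
    ∀ P x, Good σ P → (P.natDegree = 0 → x = 1) → Good σ (tw P x) ∧ (tw P x).natDegree = P.natDegree ∧
      ev (tw P x) = ((x : Fˣ) : F) * ev P ∧
      ∀ R, Good σ R → (R.natDegree = 0 → x = 1) → tw P x = tw R x → P = R := by
  classical
  choose e he using exists_param hc hF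
  let tw : F[X] → (normHom σ).ker → F[X] := fun P x =>
    if h : Good σ P ∧ 0 < P.natDegree then
      (((e (P.natDegree - 1)).symm (x * (e (P.natDegree - 1) ⟨P, h.1, by omega⟩).1,
        (e (P.natDegree - 1) ⟨P, h.1, by omega⟩).2)) : SPol σ (P.natDegree - 1 + 1)).1
    else P
  have key : ∀ k (P : SPol σ (k + 1)) x, tw P.1 x = ((e k).symm (x * (e k P).1, (e k P).2)).1 := by
    rintro k ⟨P, hP, hd⟩ x
    obtain rfl : k = P.natDegree - 1 := by omega
    exact dif_pos (⟨hP, by omega⟩ : Good σ P ∧ 0 < P.natDegree)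
  have triv : ∀ R x, R.natDegree = 0 → tw R x = R := fun R x h0 => dif_neg fun h => by omega
  refine ⟨tw, fun P x hP hx => ?_⟩
  rcases Nat.eq_zero_or_pos P.natDegree with h0 | hpos
  · have ht : tw P x = P := dif_neg fun h => by omega
    rw [ht, hx h0, OneMemClass.coe_one, Units.val_one, one_mul]
    refine ⟨hP, rfl, rfl, fun R hR _ hPR => ?_⟩
    rcases Nat.eq_zero_or_pos R.natDegree with hR0 | hRpos
    · rwa [triv R _ hR0] at hPR
    · exfalso
      obtain ⟨k, hk⟩ : ∃ k, R.natDegree = k + 1 := ⟨R.natDegree - 1, by omega⟩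
      rw [key k ⟨R, hR, hk⟩] at hPR
      have := congrArg natDegree hPR
      rw [h0, ((e k).symm _).2.2] at this
      omega
  · obtain ⟨k, hk⟩ : ∃ k, P.natDegree = k + 1 := ⟨P.natDegree - 1, by omega⟩
    rw [key k ⟨P, hP, hk⟩ x]
    set Q' := (e k).symm (x * (e k ⟨P, hP, hk⟩).1, (e k ⟨P, hP, hk⟩).2)
    have hc0 : c0 Q'.2.1 = x * c0 hP := by
      rw [← he, (e k).apply_symm_apply, he]
    have hcoeff : Q'.1.coeff 0 = ((x : Fˣ) : F) * P.coeff 0 :=
      congrArg (fun u : (normHom σ).ker => ((u : Fˣ) : F)) hc0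
    refine ⟨Q'.2.1, Q'.2.2.trans hk.symm, ?_, fun R hR hRx hPR => ?_⟩
    · rw [ev, ev, hcoeff, Q'.2.2, hk]
      ring
    · rcases Nat.eq_zero_or_pos R.natDegree with hR0 | hRpos
      · rw [triv R _ hR0] at hPR
        have := congrArg natDegree hPR
        rw [Q'.2.2, hR0] at this
        omega
      · obtain ⟨l, hl⟩ : ∃ l, R.natDegree = l + 1 := ⟨R.natDegree - 1, by omega⟩
        rw [key l ⟨R, hR, hl⟩] at hPR
        obtain rfl : k = l := by
          have := congrArg natDegree hPR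
          rw [Q'.2.2, ((e l).symm _).2.2] at this
          omega
        have h1 := congrArg (e k) (Subtype.ext hPR)
        rw [(e k).apply_symm_apply, (e k).apply_symm_apply, Prod.mk.injEq] at h1
        exact congrArg Subtype.val ((e k).injective (Prod.ext (mul_left_cancel h1.1) h1.2) :
          (⟨P, hP, hk⟩ : SPol σ (k + 1)) = ⟨R, hR, hl⟩)

end Field

theorem exists_prod_pow' {H : Type*} [CommGroup H] {m : ℕ} (S : Finset (Fin m)) :
    ∀ y : H, ∃ x : Fin m → H, (∀ i, i ∉ S → x i = 1) ∧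
      ∏ i, x i ^ ((i : ℕ) + 1) = y ^ gS (Nat.card H + 1) S := by
  induction S using Finset.induction_on with
  | empty =>
    intro y
    refine ⟨fun _ => 1, fun _ _ => rfl, ?_⟩
    rw [gS, Finset.gcd_empty, Nat.gcd_zero_right, Nat.add_sub_cancel, pow_card_eq_one']
    exact Finset.prod_eq_one fun i _ => one_pow _
  | @insert a S ha ih =>
    intro y
    set A := (a : ℕ) + 1
    set g := gS (Nat.card H + 1) S
    obtain ⟨x, hx, hxp⟩ := ih (y ^ Nat.gcdB A g)
    refine ⟨Function.update x a (y ^ Nat.gcdA A g), fun i hi => ?_, ?_⟩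
    · rw [Finset.mem_insert, not_or] at hi
      rw [Function.update_of_ne hi.1, hx i hi.2]
    · have hg : gS (Nat.card H + 1) (insert a S) = Nat.gcd A g := by
        show Nat.gcd _ _ = Nat.gcd _ (Nat.gcd _ _)
        rw [Finset.gcd_insert, ← Nat.gcd_assoc, Nat.gcd_comm A, Nat.gcd_assoc]
        rfl
      rw [← Finset.mul_prod_erase _ _ (mem_univ a), Function.update_self]
      rw [← Finset.mul_prod_erase _ _ (mem_univ a), hx a ha, one_pow, one_mul] at hxp
      rw [Finset.prod_congr rfl fun i hi => by rw [Function.update_of_ne (Finset.ne_of_mem_erase hi)], hxp, hg,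
        ← zpow_natCast (y ^ Nat.gcdA A g), ← zpow_natCast (y ^ Nat.gcdB A g), ← zpow_mul, ← zpow_mul, ← zpow_add,
        ← zpow_natCast, Nat.gcd_eq_gcd_ab, mul_comm (A : ℤ), mul_comm (g : ℤ)]

/-- The signed determinant of a tuple. -/
noncomputable def detS {m : ℕ} (b : Fin m → F[X]) : F := ∏ i, ev (b i) ^ ((i : ℕ) + 1)

theorem weighted' [Fintype F] {q : ℕ} (hc : IsConjugation σ) (hF : Fintype.card F = q ^ 2)
    (hσ : ∀ x, σ x = x ^ q) (m n : ℕ) :
    (q + 1) * Nat.card (Σ b : {b : STup σ m n // detS b.1 = 1}, Fin (gS (q + 2) (supp b.1.1))) ≤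
      Nat.card (Σ b : STup σ m n, Fin (gS (q + 2) (supp b.1) ^ 2)) := by
  classical
  haveI := (card_stup hc hF hσ m n).1
  haveI := Fintype.ofFinite (STup σ m n)
  have hU : Nat.card (normHom σ).ker = q + 1 := (frob_cards hF hσ hc).2
  set U := (normHom σ).ker
  obtain ⟨tw, htw⟩ := exists_twist hc hF
  let R := fun b : STup σ m n => (powMonoidHom (gS (q + 2) (supp b.1)) : U →* U).range
  let L := Σ b : {b : STup σ m n // detS b.1 = 1}, R b.1 × Fin (gS (q + 2) (supp b.1.1) ^ 2)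
  have hL : Nat.card L =
      (q + 1) * Nat.card (Σ b : {b : STup σ m n // detS b.1 = 1}, Fin (gS (q + 2) (supp b.1.1))) := by
    rw [Nat.card_sigma, Nat.card_sigma, Finset.mul_sum]
    refine Finset.sum_congr rfl fun b _ => ?_
    rw [Nat.card_prod, Nat.card_fin, Nat.card_fin, IsCyclic.card_powMonoidHom_range, hU]
    have hdvd : gS (q + 2) (supp b.1.1) ∣ q + 1 := gS_dvd_sub (q + 2) _
    rw [Nat.gcd_eq_right hdvd, sq, ← mul_assoc, Nat.div_mul_cancel hdvd]
  rw [← hL]
  have hsec : ∀ (b : {b : STup σ m n // detS b.1 = 1}) (y : R b.1), ∃ x : Fin m → U,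
      (∀ i, (b.1.1 i).natDegree = 0 → x i = 1) ∧ ∏ i, x i ^ ((i : ℕ) + 1) = y.1 := by
    intro b y
    obtain ⟨z, hz⟩ := y.2
    obtain ⟨x, hx, hxp⟩ := exists_prod_pow' (supp b.1.1) z
    rw [hU] at hxp
    exact ⟨x, fun i hi => hx i (by simp [supp, hi]), hxp.trans hz⟩
  -- the choice depends only on the support
  let sec : Finset (Fin m) → U → Fin m → U := fun S y =>
    if h : ∃ x : Fin m → U, (∀ i, i ∉ S → x i = 1) ∧ ∏ i, x i ^ ((i : ℕ) + 1) = y then h.choose else fun _ => 1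
  have hsec' : ∀ (b : {b : STup σ m n // detS b.1 = 1}) (y : R b.1),
      (∀ i, (b.1.1 i).natDegree = 0 → sec (supp b.1.1) y.1 i = 1) ∧
        ∏ i, sec (supp b.1.1) y.1 i ^ ((i : ℕ) + 1) = y.1 := by
    intro b y
    obtain ⟨x, hx, hxp⟩ := hsec b y
    have h : ∃ x : Fin m → U, (∀ i, i ∉ supp b.1.1 → x i = 1) ∧ ∏ i, x i ^ ((i : ℕ) + 1) = y.1 :=
      ⟨x, fun i hi => hx i (by simpa [supp] using hi), hxp⟩
    simp only [sec, dif_pos h]
    exact ⟨fun i hi => h.choose_spec.1 i (by simp [supp, hi]), h.choose_spec.2⟩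
  let img : ∀ b : {b : STup σ m n // detS b.1 = 1}, R b.1 → STup σ m n := fun b y =>
    ⟨fun i => tw (b.1.1 i) (sec (supp b.1.1) y.1 i), fun i => (htw _ _ (b.1.2.1 i) ((hsec' b y).1 i)).1, by
      refine Eq.trans (Finset.sum_congr rfl fun i _ => ?_) b.1.2.2
      rw [(htw _ _ (b.1.2.1 i) ((hsec' b y).1 i)).2.1]⟩
  have hsupp : ∀ b y, supp (img b y).1 = supp b.1.1 := fun b y => by
    refine Finset.filter_congr fun i _ => ?_
    show 0 < (tw (b.1.1 i) (sec (supp b.1.1) y.1 i)).natDegree ↔ _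
    rw [(htw _ _ (b.1.2.1 i) ((hsec' b y).1 i)).2.1]
  have hdet : ∀ b y, detS (img b y).1 = (((y.1 : U) : Fˣ) : F) := fun b y => by
    rw [detS, Finset.prod_congr rfl (g := fun i : Fin m =>
      (((sec (supp b.1.1) y.1 i : U) : Fˣ) : F) ^ ((i : ℕ) + 1) * ev (b.1.1 i) ^ ((i : ℕ) + 1)) fun i _ => ?_,
      Finset.prod_mul_distrib, show (∏ i, ev (b.1.1 i) ^ ((i : ℕ) + 1)) = 1 from b.2, mul_one]
    · conv_rhs => rw [← (hsec' b y).2]
      simp
    · show ev (tw (b.1.1 i) (sec (supp b.1.1) y.1 i)) ^ _ = _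
      rw [(htw _ _ (b.1.2.1 i) ((hsec' b y).1 i)).2.2.1, mul_pow]
  let f : L → Σ b : STup σ m n, Fin (gS (q + 2) (supp b.1) ^ 2) := fun z =>
    ⟨img z.1 z.2.1, Fin.cast (by rw [hsupp]) z.2.2⟩
  refine Nat.card_le_card_of_injective f ?_
  rintro ⟨b, y, k⟩ ⟨b', y', k'⟩ h
  simp only [f, Sigma.mk.injEq] at h
  obtain ⟨himg, hk⟩ := h
  have hy : (y.1 : U) = y'.1 := Subtype.ext (Units.ext (by rw [← hdet b y, ← hdet b' y', himg]))
  have hs : supp b.1.1 = supp b'.1.1 := by rw [← hsupp b y, ← hsupp b' y', himg]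
  obtain rfl : b = b' := Subtype.ext (Subtype.ext (funext fun i => by
    refine (htw _ _ (b.1.2.1 i) ((hsec' b y).1 i)).2.2.2 _ (b'.1.2.1 i) (fun hi => ?_) ?_
    · rw [hs, hy]; exact (hsec' b' y').1 i hi
    · have := congrFun (congrArg Subtype.val himg) i
      simp only [img] at this
      rw [this, hs, hy]))
  obtain rfl : y = y' := Subtype.ext hy
  simp only [heq_eq_eq, Fin.cast_inj] at hk
  rw [hk]

theorem gS_supp_dvd' (r : ℕ) {m n : ℕ} (b : STup σ m n) : gS r (supp b.1) ∣ n := by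
  conv_rhs => rw [← b.2.2]
  refine Finset.dvd_sum fun i _ => ?_
  rcases Nat.eq_zero_or_pos (b.1 i).natDegree with h | h
  · simp [h]
  · exact Dvd.dvd.mul_right (gS_dvd r _ (by simp [supp, h])) _

theorem card_dvd_le' [Fintype F] {q : ℕ} (hc : IsConjugation σ) (hF : Fintype.card F = q ^ 2)
    (hσ : ∀ x, σ x = x ^ q) (r n d : ℕ) (hd : 0 < d) (hdn : d ∣ n) :
    Nat.card {b : STup σ n n // d ∣ gS r (supp b.1)} ≤ G q (n / d) (n / d) := by
  classical
  haveI := (card_stup hc hF hσ (n / d) (n / d)).1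
  have hmul : d * (n / d) = n := Nat.mul_div_cancel' hdn
  let idx : Fin (n / d) → Fin n := fun k => ⟨d * ((k : ℕ) + 1) - 1, by
    have h1 : d * ((k : ℕ) + 1) ≤ d * (n / d) := Nat.mul_le_mul_left d k.2
    have h2 : 0 < d * ((k : ℕ) + 1) := Nat.mul_pos hd (Nat.succ_pos _)
    omega⟩
  have hidx : ∀ k, ((idx k : ℕ) + 1) = d * ((k : ℕ) + 1) := fun k => by
    have h2 : 0 < d * ((k : ℕ) + 1) := Nat.mul_pos hd (Nat.succ_pos _)
    simp only [idx]; omega
  have hinj : Function.Injective idx := fun a b h => by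
    have := congrArg (fun i : Fin n => (i : ℕ) + 1) h
    simp only [hidx] at this
    exact Fin.ext (by have := Nat.eq_of_mul_eq_mul_left hd this; omega)
  have hoff : ∀ b : {b : STup σ n n // d ∣ gS r (supp b.1)}, ∀ i, i ∉ univ.image idx →
      (b.1.1 i).natDegree = 0 := by
    intro b i hi
    by_contra h
    obtain ⟨c, hc'⟩ := b.2.trans (gS_dvd _ _ (i := i) (by simp [supp]; omega))
    refine hi (Finset.mem_image.2 ⟨⟨c - 1, ?_⟩, mem_univ _, Fin.ext ?_⟩)
    · have h1 : d * c ≤ d * (n / d) := by have := i.2; omega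
      have h2 := Nat.le_of_mul_le_mul_left h1 hd
      rcases Nat.eq_zero_or_pos c with rfl | h3
      · omega
      · omega
    · rcases Nat.eq_zero_or_pos c with rfl | h3
      · omega
      · simp only [idx, Nat.sub_add_cancel h3]
        rw [← hc']; rfl
  let f : {b : STup σ n n // d ∣ gS r (supp b.1)} → STup σ (n / d) (n / d) := fun b =>
    ⟨fun k => b.1.1 (idx k), fun k => b.1.2.1 _, by
      refine Nat.eq_of_mul_eq_mul_left hd ?_
      rw [hmul, Finset.mul_sum]
      conv_rhs => rw [← b.1.2.2]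
      rw [← Finset.sum_subset (Finset.subset_univ (univ.image idx)) fun i _ hi => by rw [hoff b i hi, mul_zero],
        Finset.sum_image fun a _ b _ h => hinj h]
      exact Finset.sum_congr rfl fun k _ => by rw [hidx, mul_assoc]⟩
  refine (Nat.card_le_card_of_injective f ?_).trans (card_stup hc hF hσ _ _).2
  intro b b' h
  refine Subtype.ext (Subtype.ext (funext fun i => ?_))
  by_cases hi : i ∈ univ.image idx
  · obtain ⟨k, -, rfl⟩ := Finset.mem_image.1 hi
    exact congrFun (congrArg Subtype.val h) k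
  · rw [eq_one_of_monic_natDegree_zero (b.1.2.1 i).1 (hoff b i hi),
      eq_one_of_monic_natDegree_zero (b'.1.2.1 i).1 (hoff b' i hi)]

theorem sum_sq_le' [Fintype F] {q : ℕ} (hc : IsConjugation σ) (hF : Fintype.card F = q ^ 2)
    (hσ : ∀ x, σ x = x ^ q) (n : ℕ) (hn : 0 < n) :
    Nat.card (Σ b : STup σ n n, Fin (gS (q + 2) (supp b.1) ^ 2)) ≤ E q n := by
  classical
  haveI := (card_stup hc hF hσ n n).1
  haveI := Fintype.ofFinite (STup σ n n)
  have hpt : ∀ b : STup σ n n, gS (q + 2) (supp b.1) ^ 2 ≤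
      1 + ∑ d ∈ dset (q + 2) n, if d ∣ gS (q + 2) (supp b.1) then d ^ 2 - 1 else 0 := by
    intro b
    set g := gS (q + 2) (supp b.1)
    rcases le_or_gt g 1 with h | h
    · exact (Nat.pow_le_one_iff (by norm_num)).2 h |>.trans (Nat.le_add_right _ _)
    · have hd := gS_supp_dvd' (q + 2) b
      have hmem : g ∈ dset (q + 2) n := by
        simp only [dset, Finset.mem_filter, Finset.mem_Icc]
        exact ⟨⟨h, Nat.le_of_dvd hn hd⟩, hd, gS_dvd_sub (q + 2) _⟩
      have hs := Finset.single_le_sum (f := fun d => if d ∣ g then d ^ 2 - 1 else 0)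
        (fun _ _ => Nat.zero_le _) hmem
      simp only [dvd_refl, if_true] at hs
      omega
  rw [Nat.card_sigma]
  simp only [Nat.card_fin]
  refine (Finset.sum_le_sum fun b _ => hpt b).trans ?_
  rw [Finset.sum_add_distrib, Finset.sum_comm]
  refine Nat.add_le_add ?_ (Finset.sum_le_sum fun d hd => ?_)
  · rw [Finset.sum_const, smul_eq_mul, mul_one, Finset.card_univ, ← Nat.card_eq_fintype_card]
    exact (card_stup hc hF hσ n n).2
  · simp only [dset, Finset.mem_filter, Finset.mem_Icc] at hd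
    rw [← Finset.sum_filter, Finset.sum_const, smul_eq_mul, mul_comm]
    refine Nat.mul_le_mul_left _ ?_
    rw [← Fintype.card_subtype, ← Nat.card_eq_fintype_card]
    exact card_dvd_le' hc hF hσ _ n d (by omega) hd.2.1

end CfsgLib.ClassNumberSU
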