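import Cfsg.Agent.Lib.KnownA.ClassNumberSU.Count
import Cfsg.Agent.Lib.KnownA.ClassNumberSL.Numeric

/-!
Numerical bounds for the weighted count.
-/

set_option autoImplicit false
set_option linter.unusedSectionVars false

namespace CfsgLib.ClassNumberSU

open Finset CfsgLib.ClassNumberSL

/-- Auxiliary sum. -/
def H (q m k : ℕ) : ℕ := ∑ d ∈ range (k / (m + 1) + 1), q ^ d * G q m (k - (m + 1) * d)

theorem G_succ_of_lt (q m n : ℕ) (h : n < m + 1) : G q (m + 1) n = G q m n := by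
  simp [G, Nat.div_eq_of_lt h, wtU]

theorem G_succ_of_le (q m n : ℕ) (h : m + 1 ≤ n) :
    G q (m + 1) n = G q m n + (q + 1) * H q m (n - (m + 1)) := by
  show ∑ d ∈ range (n / (m + 1) + 1), wtU q d * G q m (n - (m + 1) * d) = _
  rw [sum_range_succ', Nat.div_eq_sub_div (Nat.succ_pos m) h, H, mul_sum]
  rw [add_comm (G q m n)]
  congr 1
  · refine sum_congr rfl fun d _ => ?_
    rw [wtU, mul_assoc]
    congr 3
    rw [Nat.mul_succ, Nat.sub_sub, add_comm]
  · simp [wtU]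

theorem H_of_le (q m k : ℕ) (h : m + 1 ≤ k) :
    H q m k = G q m k + q * H q m (k - (m + 1)) := by
  rw [H, sum_range_succ', Nat.div_eq_sub_div (Nat.succ_pos m) h, H, mul_sum, add_comm (G q m k)]
  congr 1
  · refine sum_congr rfl fun d _ => ?_
    rw [pow_succ', mul_assoc]
    congr 3
    rw [Nat.mul_succ, Nat.sub_sub, add_comm]
  · simp

/-- The constants in `G q m n ≤ c q m * q ^ n`. -/
def c (q : ℚ) : ℕ → ℚ
  | 0 => 1
  | 1 => 1 + 1 / q
  | m + 2 => c q (m + 1) * (1 + (q + 1) / (q * (q ^ (m + 1) - 1)))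

variable {q : ℕ}

theorem one_lt_pow' (hq : 2 ≤ q) (m : ℕ) : (1 : ℚ) < (q : ℚ) ^ (m + 1) :=
  one_lt_pow₀ (by exact_mod_cast (by omega : 1 < q)) (Nat.succ_ne_zero m)

theorem c_pos (hq : 2 ≤ q) : ∀ m, 0 < c (q : ℚ) m
  | 0 => one_pos
  | 1 => by unfold c; positivity
  | m + 2 => by
    have h1 := one_lt_pow' hq m
    have h2 : (0 : ℚ) < q := by exact_mod_cast (by omega : 0 < q)
    have h3 := c_pos hq (m + 1)
    unfold c
    have : (0 : ℚ) < (q : ℚ) ^ (m + 1) - 1 := by linarith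
    positivity

theorem c_le_succ (hq : 2 ≤ q) (m : ℕ) : c (q : ℚ) (m + 1) ≤ c (q : ℚ) (m + 2) := by
  have h1 := one_lt_pow' hq m
  have h3 := c_pos hq (m + 1)
  show _ ≤ c (q : ℚ) (m + 1) * _
  refine le_mul_of_one_le_right h3.le (le_add_of_nonneg_right ?_)
  have : (0 : ℚ) < (q : ℚ) ^ (m + 1) - 1 := by linarith
  positivity

theorem G_le (hq : 2 ≤ q) : ∀ m k, (G q (m + 1) k : ℚ) ≤ c (q : ℚ) (m + 1) * (q : ℚ) ^ k := by
  have hq0 : (0 : ℚ) < q := by exact_mod_cast (by omega : 0 < q)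
  intro m
  induction m with
  | zero =>
    intro k
    have h : G q 1 k = wtU q k := by
      show ∑ d ∈ range (k / 1 + 1), wtU q d * G q 0 (k - 1 * d) = _
      rw [Nat.div_one, Finset.sum_eq_single k]
      · simp [G]
      · intro d hd hne
        have : k - d ≠ 0 := by have := mem_range.1 hd; omega
        simp [G, this]
      · simp
    rw [h]
    show _ ≤ (1 + 1 / (q : ℚ)) * _
    rcases k with _ | k
    · simp only [wtU, Nat.cast_one, pow_zero, mul_one]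
      exact le_add_of_nonneg_right (by positivity)
    · refine le_of_eq ?_
      rw [wtU, pow_succ]
      push_cast
      field_simp
  | succ m ih =>
    intro n
    have hX := one_lt_pow' hq m
    set X := (q : ℚ) ^ (m + 1) with hXdef
    have hc := c_pos hq (m + 1)
    have hH : ∀ k, (H q (m + 1) k : ℚ) ≤ c (q : ℚ) (m + 1) * (X / (X - 1)) * (q : ℚ) ^ k := by
      intro k
      have hr : 1 ≤ X / (X - 1) := by rw [le_div_iff₀ (by linarith)]; linarith
      induction k using Nat.strong_induction_on with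
      | _ k ihk =>
        rcases Nat.lt_or_ge k (m + 1 + 1) with hk | hk
        · have : H q (m + 1) k = G q (m + 1) k := by simp [H, Nat.div_eq_of_lt hk]
          rw [this]
          refine (ih k).trans ?_
          exact mul_le_mul_of_nonneg_right (le_mul_of_one_le_right hc.le hr) (by positivity)
        · rw [H_of_le q (m + 1) k hk]
          push_cast
          obtain ⟨j, rfl⟩ : ∃ j, k = j + (m + 1 + 1) := ⟨k - (m + 1 + 1), by omega⟩
          rw [Nat.add_sub_cancel]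
          have h1 := ih (j + (m + 1 + 1))
          have h2 := mul_le_mul_of_nonneg_left (ihk j (by omega)) hq0.le
          refine (add_le_add h1 h2).trans (le_of_eq ?_)
          have hne : X - 1 ≠ 0 := by linarith
          rw [pow_add, pow_succ (q : ℚ) (m + 1), ← hXdef]
          field_simp
          ring
    show _ ≤ c (q : ℚ) (m + 1) * _ * _
    rcases Nat.lt_or_ge n (m + 1 + 1) with hn | hn
    · rw [G_succ_of_lt q (m + 1) n hn]
      refine (ih n).trans (mul_le_mul_of_nonneg_right (le_mul_of_one_le_right hc.le (le_add_of_nonneg_right ?_))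
        (by positivity))
      have : (0 : ℚ) < (q : ℚ) ^ (m + 1) - 1 := by rw [← hXdef]; linarith
      positivity
    · rw [G_succ_of_le q (m + 1) n hn]
      push_cast
      obtain ⟨j, rfl⟩ : ∃ j, n = j + (m + 1 + 1) := ⟨n - (m + 1 + 1), by omega⟩
      rw [Nat.add_sub_cancel]
      refine (add_le_add (ih _) (mul_le_mul_of_nonneg_left (hH j) (by positivity))).trans (le_of_eq ?_)
      have hne : X - 1 ≠ 0 := by linarith
      rw [pow_add, pow_succ (q : ℚ) (m + 1), ← hXdef]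
      field_simp

theorem step_le (hq : 2 ≤ q) (m : ℕ) :
    (1 - ((q : ℚ) + 1) / (q - 1) / (q : ℚ) ^ (m + 1)) * (1 + ((q : ℚ) + 1) / (q * ((q : ℚ) ^ (m + 1) - 1))) ≤
      1 - ((q : ℚ) + 1) / (q - 1) / (q : ℚ) ^ (m + 2) := by
  have hX := one_lt_pow' hq m
  rw [pow_succ (q : ℚ) (m + 1)]
  set X := (q : ℚ) ^ (m + 1)
  have h2 : (2 : ℚ) ≤ q := by exact_mod_cast hq
  have hX0 : (0 : ℚ) < X := by linarith
  have hX1 : (0 : ℚ) < X - 1 := by linarith
  have hq1 : (0 : ℚ) < (q : ℚ) - 1 := by linarith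
  rw [← sub_nonneg]
  have e : 1 - ((q : ℚ) + 1) / (q - 1) / (X * q) -
      (1 - ((q : ℚ) + 1) / (q - 1) / X) * (1 + ((q : ℚ) + 1) / (q * (X - 1))) =
      2 * ((q : ℚ) + 1) / (((q : ℚ) - 1) * q * X * (X - 1)) := by
    field_simp
    ring
  rw [e]
  positivity

/-- The uniform bound. -/
theorem G_le_const (hq : 2 ≤ q) (M : ℕ) (C : ℚ)
    (hC : c (q : ℚ) (M + 1) ≤ C * (1 - ((q : ℚ) + 1) / (q - 1) / (q : ℚ) ^ (M + 1))) (hC0 : 0 ≤ C)
    {m : ℕ} (hm : 0 < m) (k : ℕ) : (G q m k : ℚ) ≤ C * (q : ℚ) ^ k := by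
  obtain ⟨m, rfl⟩ : ∃ j, m = j + 1 := ⟨m - 1, by omega⟩
  refine (G_le hq m k).trans (mul_le_mul_of_nonneg_right ?_ (by positivity))
  have h2 : (2 : ℚ) ≤ q := by exact_mod_cast hq
  have hq1 : (0 : ℚ) < (q : ℚ) - 1 := by linarith
  have hα : ∀ j, (0 : ℚ) ≤ ((q : ℚ) + 1) / (q - 1) / (q : ℚ) ^ (j + 1) := fun j => by positivity
  have key : ∀ j, c (q : ℚ) (M + j + 1) ≤ C * (1 - ((q : ℚ) + 1) / (q - 1) / (q : ℚ) ^ (M + j + 1)) := by
    intro j
    induction j with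
    | zero => exact hC
    | succ j ihj =>
      show c (q : ℚ) (M + j + 1) * _ ≤ _
      have hpos : (0 : ℚ) < (q : ℚ) ^ (M + j + 1) - 1 := by have := one_lt_pow' hq (M + j); linarith
      refine (mul_le_mul_of_nonneg_right ihj (by positivity)).trans ?_
      rw [mul_assoc]
      exact mul_le_mul_of_nonneg_left (step_le hq (M + j)) hC0
  have hle : ∀ j, c (q : ℚ) (M + j + 1) ≤ C := fun j =>
    (key j).trans (mul_le_of_le_one_right hC0 (by have := hα (M + j); linarith))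
  rcases le_or_gt M m with h | h
  · obtain ⟨j, rfl⟩ : ∃ j, m = M + j := ⟨m - M, by omega⟩
    exact hle j
  · exact ((monotone_nat_of_le_succ (f := fun j => c (q : ℚ) (j + 1)) fun j => c_le_succ hq j) h.le).trans (hle 0)

theorem E_cast_le (hq : 2 ≤ q) {n : ℕ} (hn : 0 < n) (C K : ℚ) (hC0 : 0 ≤ C)
    (hC : ∀ {m : ℕ}, 0 < m → ∀ k, (G q m k : ℚ) ≤ C * (q : ℚ) ^ k)
    (hK : ∑ d ∈ dset (q + 2) n, ((d : ℚ) ^ 2 - 1) * (q : ℚ) ^ (n / d) ≤ K * (q : ℚ) ^ n) :
    (E q n : ℚ) ≤ C * (1 + K) * (q : ℚ) ^ n := by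
  rw [E, Nat.cast_add, Nat.cast_sum, mul_add, mul_one, add_mul]
  refine add_le_add (hC hn n) ?_
  rw [mul_assoc]
  refine le_trans (Finset.sum_le_sum fun d hd => ?_) ((Finset.mul_sum _ _ C).symm.le.trans
    (mul_le_mul_of_nonneg_left hK hC0))
  obtain ⟨h2, hdn⟩ := (mem_dset.1 hd).1
  have h1 : 1 ≤ d ^ 2 := Nat.one_le_pow _ _ (by omega)
  push_cast [h1]
  rw [mul_left_comm]
  have hd1 : (1 : ℚ) ≤ (d : ℚ) ^ 2 := by exact_mod_cast h1
  exact mul_le_mul_of_nonneg_left (hC (Nat.div_pos hdn (by omega)) _) (by linarith)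

theorem sum_large (hq : 4 ≤ q) (n : ℕ) :
    ∑ d ∈ dset (q + 2) n, ((d : ℚ) ^ 2 - 1) * (q : ℚ) ^ (n / d) ≤ 9 / 4 * (q : ℚ) ^ n := by
  have h4 : (4 : ℚ) ≤ q := by exact_mod_cast hq
  have hpoly : ∀ j : ℕ, ((j : ℚ) + 2) ^ 2 - 1 ≤ 3 * (8 / 3) ^ j := by
    intro j
    induction j with
    | zero => norm_num
    | succ j ih =>
      have h0 : (0 : ℚ) ≤ j := Nat.cast_nonneg j
      push_cast
      rw [pow_succ (8 / 3 : ℚ)]
      nlinarith
  have hterm : ∀ d ∈ dset (q + 2) n,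
      ((d : ℚ) ^ 2 - 1) * (q : ℚ) ^ (n / d) ≤ 3 / 4 * (2 / 3) ^ (d - 2) * (q : ℚ) ^ n := by
    intro d hd
    obtain ⟨⟨h2, hdn⟩, ⟨k, rfl⟩, -⟩ := mem_dset.1 hd
    obtain ⟨j, rfl⟩ : ∃ j, d = j + 2 := ⟨d - 2, by omega⟩
    have hk : 0 < k := by
      rcases Nat.eq_zero_or_pos k with rfl | hk
      · simp at hdn
      · exact hk
    have hex : k + (j + 1) ≤ (j + 2) * k := by nlinarith
    obtain ⟨r, hr⟩ : ∃ r, (j + 2) * k = k + (j + 1) + r := ⟨(j + 2) * k - (k + (j + 1)), by omega⟩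
    rw [Nat.mul_div_cancel_left k (by omega), Nat.add_sub_cancel, hr, pow_add, pow_add]
    have hpow : (4 : ℚ) ^ (j + 1) ≤ (q : ℚ) ^ (j + 1) * (q : ℚ) ^ r :=
      (pow_le_pow_left₀ (by norm_num) h4 _).trans
        (le_mul_of_one_le_right (by positivity) (one_le_pow₀ (by linarith)))
    have e : (3 : ℚ) / 4 * (2 / 3) ^ j * 4 ^ (j + 1) = 3 * (8 / 3) ^ j := by
      rw [pow_succ, show (8 / 3 : ℚ) = 2 / 3 * 4 by norm_num, mul_pow]; ring
    have h3 := hpoly j
    push_cast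
    calc (((j : ℚ) + 2) ^ 2 - 1) * (q : ℚ) ^ k ≤ 3 / 4 * (2 / 3) ^ j * 4 ^ (j + 1) * (q : ℚ) ^ k := by
          rw [e]; exact mul_le_mul_of_nonneg_right h3 (by positivity)
      _ ≤ 3 / 4 * (2 / 3) ^ j * ((q : ℚ) ^ (j + 1) * (q : ℚ) ^ r) * (q : ℚ) ^ k :=
          mul_le_mul_of_nonneg_right (mul_le_mul_of_nonneg_left hpow (by positivity)) (by positivity)
      _ = _ := by ring
  refine (Finset.sum_le_sum hterm).trans ?_
  rw [← Finset.sum_mul, ← Finset.mul_sum]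
  refine mul_le_mul_of_nonneg_right ?_ (by positivity)
  have hsum : ∑ d ∈ dset (q + 2) n, (2 / 3 : ℚ) ^ (d - 2) ≤ ∑ j ∈ range n, (2 / 3 : ℚ) ^ j := by
    rw [← Finset.sum_image (f := fun j => (2 / 3 : ℚ) ^ j) (g := fun d => d - 2) fun a ha b hb h => by
      have := (mem_dset.1 ha).1
      have := (mem_dset.1 hb).1
      simp only at h
      omega]
    refine Finset.sum_le_sum_of_subset_of_nonneg (fun j hj => ?_) fun _ _ _ => by positivity
    obtain ⟨d, hd, rfl⟩ := Finset.mem_image.1 hj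
    have := (mem_dset.1 hd).1
    simp only [mem_range]; omega
  have hgeo : ∑ j ∈ range n, (2 / 3 : ℚ) ^ j ≤ 3 := by
    rw [geom_sum_eq (by norm_num), div_le_iff_of_neg (by norm_num)]
    have : (0 : ℚ) ≤ (2 / 3) ^ n := by positivity
    linarith
  linarith

theorem const_large (hq : 4 ≤ q) :
    c (q : ℚ) (0 + 1) ≤ 15 / 7 * (1 - ((q : ℚ) + 1) / (q - 1) / (q : ℚ) ^ (0 + 1)) := by
  have h4 : (4 : ℚ) ≤ q := by exact_mod_cast hq
  have h1 : (0 : ℚ) < (q : ℚ) - 1 := by linarith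
  show 1 + 1 / (q : ℚ) ≤ _
  rw [← sub_nonneg]
  have e : 15 / 7 * (1 - ((q : ℚ) + 1) / (q - 1) / (q : ℚ) ^ (0 + 1)) - (1 + 1 / (q : ℚ)) =
      ((8 * (q : ℚ) + 2) * ((q : ℚ) - 4)) / (7 * (q * ((q : ℚ) - 1))) := by
    rw [zero_add, pow_one]
    field_simp
    ring
  rw [e]
  exact div_nonneg (mul_nonneg (by positivity) (by linarith)) (by positivity)

theorem const_two : c ((2 : ℕ) : ℚ) (11 + 1) ≤
    826 / 100 * (1 - (((2 : ℕ) : ℚ) + 1) / (((2 : ℕ) : ℚ) - 1) / ((2 : ℕ) : ℚ) ^ (11 + 1)) := by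
  norm_num [c]

theorem E_le (q n : ℕ) (hq : 2 ≤ q) (hn : 2 ≤ n) : 100 * E q n ≤ 826 * ((q + 1) * q ^ (n - 1)) := by
  suffices h : ∃ B : ℚ, 100 * B * q ≤ 826 * ((q : ℚ) + 1) ∧ (E q n : ℚ) ≤ B * (q : ℚ) ^ n by
    obtain ⟨B, hB, hE⟩ := h
    have hpow : (q : ℚ) ^ n = (q : ℚ) ^ (n - 1) * q := by rw [← pow_succ, Nat.sub_add_cancel (by omega)]
    suffices (100 : ℚ) * E q n ≤ 826 * (((q : ℚ) + 1) * (q : ℚ) ^ (n - 1)) by exact_mod_cast this
    calc (100 : ℚ) * E q n ≤ 100 * (B * (q : ℚ) ^ n) := mul_le_mul_of_nonneg_left hE (by norm_num)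
      _ = 100 * B * q * (q : ℚ) ^ (n - 1) := by rw [hpow]; ring
      _ ≤ 826 * ((q : ℚ) + 1) * (q : ℚ) ^ (n - 1) := mul_le_mul_of_nonneg_right hB (by positivity)
      _ = _ := by ring
  rcases (by omega : q = 2 ∨ q = 3 ∨ 4 ≤ q) with rfl | rfl | h4
  · by_cases hn3 : n = 3
    · subst hn3
      refine ⟨12, by norm_num, ?_⟩
      have : E 2 3 ≤ 12 * 2 ^ 3 := by decide
      exact_mod_cast this
    refine ⟨826 / 100 * (1 + 1 / 2), by norm_num, E_cast_le le_rfl (by omega) _ _ (by norm_num)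
      (G_le_const le_rfl 11 _ const_two (by norm_num)) ?_⟩
    rcases (dset (2 + 2) n).eq_empty_or_nonempty with h | ⟨d, hd⟩
    · rw [h]; simp
    have hd3 : ∀ d ∈ dset (2 + 2) n, d = 3 := fun d hd => by
      obtain ⟨⟨h2, -⟩, -, h3⟩ := mem_dset.1 hd
      have := Nat.le_of_dvd (by norm_num) h3
      interval_cases d <;> simp_all
    have hmem := mem_dset.1 (hd3 d hd ▸ hd)
    refine (Finset.sum_le_sum_of_subset_of_nonneg (t := {3}) (fun x hx => by simp [hd3 x hx])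
      fun x hx _ => by simp only [Finset.mem_singleton] at hx; subst hx; positivity).trans ?_
    rw [Finset.sum_singleton]
    obtain ⟨k, hk⟩ := hmem.2.1
    obtain ⟨r, hr⟩ : ∃ r, n = n / 3 + 4 + r := ⟨n - (n / 3 + 4), by omega⟩
    conv_rhs => rw [hr, pow_add, pow_add]
    push_cast
    have h1 : (1 : ℚ) ≤ 2 ^ r := one_le_pow₀ (by norm_num)
    have h2 : (0 : ℚ) < 2 ^ (n / 3) := by positivity
    nlinarith
  · refine ⟨4 * (1 + 14 / 9), by norm_num, E_cast_le (by norm_num) (by omega) _ _ (by norm_num)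
      (G_le_const (by norm_num) 0 _ (by norm_num [c]) (by norm_num)) ?_⟩
    have hterm : ∀ d ∈ dset (3 + 2) n, ((d : ℚ) ^ 2 - 1) * ((3 : ℕ) : ℚ) ^ (n / d) ≤
        (if d = 2 then 1 else 5 / 9) * ((3 : ℕ) : ℚ) ^ n := by
      intro d hd
      obtain ⟨⟨h2, hdn⟩, hdvd, h3⟩ := mem_dset.1 hd
      have := Nat.le_of_dvd (by norm_num) h3
      push_cast
      interval_cases d
      · rw [if_pos rfl, one_mul]
        norm_num
        calc (3 : ℚ) * 3 ^ (n / 2) = 3 ^ (n / 2 + 1) := by ring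
          _ ≤ 3 ^ n := pow_le_pow_right₀ (by norm_num) (by omega)
      · norm_num at h3
      · rw [if_neg (by norm_num)]
        obtain ⟨r, hr⟩ : ∃ r, n = n / 4 + 3 + r := ⟨n - (n / 4 + 3), by omega⟩
        conv_rhs => rw [hr, pow_add, pow_add]
        push_cast
        have h1 : (1 : ℚ) ≤ 3 ^ r := one_le_pow₀ (by norm_num)
        have h2 : (0 : ℚ) < 3 ^ (n / 4) := by positivity
        nlinarith
    refine (Finset.sum_le_sum hterm).trans ?_
    rw [← Finset.sum_mul]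
    refine mul_le_mul_of_nonneg_right ?_ (by positivity)
    refine (Finset.sum_le_sum_of_subset_of_nonneg (t := {2, 4}) (fun d hd => ?_) fun d _ _ => ?_).trans
      (by norm_num)
    · obtain ⟨⟨h2, -⟩, -, h3⟩ := mem_dset.1 hd
      have := Nat.le_of_dvd (by norm_num) h3
      interval_cases d <;> simp_all
    · split_ifs <;> norm_num
  · refine ⟨15 / 7 * (1 + 9 / 4), ?_, E_cast_le hq (by omega) _ _ (by norm_num)
      (G_le_const hq 0 _ (const_large h4) (by norm_num)) (sum_large h4 n)⟩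
    have : (4 : ℚ) ≤ q := by exact_mod_cast h4
    linarith

end CfsgLib.ClassNumberSU
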