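import Cfsg.Agent.Lib.KnownA.ClassNumberSU.Model
import Cfsg.Agent.Lib.KnownA.ClassNumberSU.Numeric
import Cfsg.Agent.Lib.Classical.PSUSpectrum.Base

/-!
The class number of `SU n`.
-/

set_option autoImplicit false
set_option linter.unusedSectionVars false

namespace CfsgLib.ClassNumberSU

open Polynomial Finset CfsgLib.Classical CfsgLib.Classical.PSUSpectrum CfsgLib.ClassNumberSL CfsgLib.ClassNumberGL

attribute [local instance] CfsgLib.ClassNumberGL.Decomp.fι

theorem aeval_intertwine {K : Type*} [Field K] {V W : Type*} [AddCommGroup V] [Module K V] [AddCommGroup W]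
    [Module K W] (e : V →ₗ[K] W) (x : Module.End K V) (y : Module.End K W) (he : ∀ v, e (x v) = y (e v))
    (f : K[X]) : ∀ v, e (aeval x f v) = aeval y f (e v) := by
  induction f using Polynomial.induction_on with
  | C a => intro v; simp [aeval_C, Module.algebraMap_end_apply]
  | add p r hp hr => intro v; simp [hp v, hr v]
  | monomial k a ih =>
    intro v
    rw [pow_succ, ← mul_assoc, map_mul (aeval x), map_mul (aeval y), Module.End.mul_apply, Module.End.mul_apply,
      aeval_X, aeval_X, ih, he]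

variable {F : Type*} [Field F] [Fintype F] {σ : F →+* F} {n q : ℕ}

/-- The determinant of an isometry of the standard form. -/
noncomputable def detI (hσ : ∀ x, σ x = x ^ q) : isomGroup (stdHerm σ n) →* (normHom σ).ker :=
  (guDet hσ).comp (guEquiv hσ).symm.toMonoidHom

theorem detI_val (hσ : ∀ x, σ x = x ^ q) (g : isomGroup (stdHerm σ n)) :
    (((detI hσ g : (normHom σ).ker) : Fˣ) : F) = LinearMap.det (toEndU g) := by
  obtain ⟨u, rfl⟩ := (guEquiv hσ).surjective g
  rw [detI, MonoidHom.comp_apply]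
  simp only [MulEquiv.coe_toMonoidHom, MulEquiv.symm_apply_apply]
  exact (LinearMap.det_toLin' _).symm

theorem suIsom_injective (hσ : ∀ x, σ x = x ^ q) : Function.Injective (suIsom (n := n) hσ) :=
  (guEquiv hσ).injective.comp suToGU_injective

section

variable (hc : IsConjugation σ) (hσ : ∀ x, σ x = x ^ q) (hF : Fintype.card F = q ^ 2)
include hc hσ hF

/-- Classes are counted by weighted fixed tuples. -/
theorem card_classes_le (hn : 0 < n) : (q + 1) * Nat.card (ConjClasses (Cfsg.SU n F q)) ≤ E q n := by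
  classical
  let U := (normHom σ).ker
  have hU : Nat.card U = q + 1 := (frob_cards hF hσ hc).2
  let rep : ConjClasses (Cfsg.SU n F q) → Cfsg.SU n F q := fun C => C.exists_rep.choose
  let M := fun C : ConjClasses (Cfsg.SU n F q) => ((rep C).1 : Matrix (Fin n) (Fin n) F)
  have hu : ∀ C, IsUnit (M C) := fun C =>
    (Matrix.isUnit_iff_isUnit_det _).2 (by rw [show (M C).det = 1 from (rep C).1.2]; exact isUnit_one)
  let D : ∀ C, Decomp (M C) := fun C => (exists_decomp _).some
  have hact : ∀ C v, Matrix.toLin' (M C) v = (suIsom hσ (rep C)).1 v := fun C v =>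
    (LinearMap.congr_fun (suIsom_apply hσ (rep C)) v).symm
  let T : ∀ C, {b : STup σ n n // detS b.1 = 1} := fun C =>
    ⟨⟨tup (D C), fun i => ⟨((tup_mem (hu C) (D C)).1 i).1, ((tup_mem (hu C) (D C)).1 i).2,
      star_tup hc (hu C) (symm_of_isometry hc _ (hact C)) (D C) i⟩, (tup_mem (hu C) (D C)).2⟩, by
      rw [detS, ← det_eq (D C)]; exact (rep C).1.2⟩
  haveI := (card_stup hc hF hσ n n).1
  haveI : Fintype {b : STup σ n n // detS b.1 = 1} := Fintype.ofFinite _
  have hfib : ∀ b, Nat.card {C // T C = b} ≤ gS (q + 2) (supp b.1.1) := by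
    intro b
    rcases isEmpty_or_nonempty {C // T C = b} with hemp | ⟨⟨C₀, hC₀⟩⟩
    · simp [Nat.card_of_isEmpty]
    set α₀ := suIsom hσ (rep C₀)
    have hex : ∀ C : {C // T C = b}, ∃ h : isomGroup (stdHerm σ n), h * α₀ = suIsom hσ (rep C.1) * h := by
      intro C
      obtain ⟨e, he⟩ := intertwine_of_tup (D C₀) (D C.1)
        (congrArg (fun t : {b : STup σ n n // detS b.1 = 1} => t.1.1) (hC₀.trans C.2.symm))
      obtain ⟨u, hu', hux⟩ := exists_isometry_intertwine (stdHerm_isHermitian hc n) (stdHerm_isHermitian hc n)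
        (stdHerm_sepRight n) (stdHerm_sepRight n) (α₀.1 : Module.End F (Fin n → F))
        ((suIsom hσ (rep C.1)).1 : Module.End F (Fin n → F)) α₀.1.surjective (fun a b => α₀.2 a b)
        (fun a b => (suIsom hσ (rep C.1)).2 a b) e (fun v => by
          have h1 := he v
          rwa [hact, hact] at h1)
      exact ⟨⟨u, hu'⟩, Subtype.ext (LinearEquiv.ext hux)⟩
    choose h hh using hex
    set R := (powMonoidHom (gS (q + 2) (supp b.1.1)) : U →* U).range
    refine le_trans (Nat.card_le_card_of_injective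
      (fun C => (QuotientGroup.mk (detI hσ (h C)) : U ⧸ R)) ?_) ?_
    · intro C C' hCC
      obtain ⟨y, hy⟩ := QuotientGroup.eq.1 hCC
      let Z := (Subgroup.centralizer ({α₀} : Set (isomGroup (stdHerm σ n)))).map (detI hσ)
      have hZ : y ^ gS (q + 2) (supp b.1.1) ∈ Z := by
        obtain ⟨x, hx, hxp⟩ := exists_prod_pow' (supp b.1.1) y
        rw [hU] at hxp
        rw [← hxp]
        refine prod_mem fun i _ => ?_
        by_cases hi : i ∈ supp b.1.1
        · have hpos : 0 < (tup (D C₀) i).natDegree := by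
            simp only [supp, Finset.mem_filter] at hi
            rw [show tup (D C₀) = b.1.1 from congrArg (fun t : {b : STup σ n n // detS b.1 = 1} => t.1.1) hC₀]
            exact hi.2
          obtain ⟨z, hz, hzd⟩ := exists_centralizer_isometry hc α₀ (hact C₀) (D C₀) hpos
            (mem_normKer.1 (x i).2)
          refine ⟨z, Subgroup.mem_centralizer_iff.2 fun g hg => ?_, Subtype.ext (Units.ext ?_)⟩
          · rw [Set.mem_singleton_iff] at hg
            subst hg
            exact hz.symm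
          · rw [detI_val, SubgroupClass.coe_pow, Units.val_pow_eq_pow_val]
            exact hzd
        · rw [hx i hi, one_pow]; exact one_mem Z
      obtain ⟨z, hzc, hzd⟩ := hZ
      rw [powMonoidHom_apply] at hy
      have hzc' := Subgroup.mem_centralizer_iff.1 hzc α₀ rfl
      set g := h C * z * (h C')⁻¹ with hg
      have hgd : LinearMap.det (toEndU g) = 1 := by
        rw [← detI_val hσ, show detI hσ g = 1 by
          rw [hg, map_mul, map_mul, map_inv, hzd, hy, mul_inv_cancel_left, mul_inv_cancel]]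
        rfl
      obtain ⟨sg, hsg⟩ := exists_suIsom hσ g hgd
      refine Subtype.ext ?_
      rw [← C.1.exists_rep.choose_spec, ← C'.1.exists_rep.choose_spec, eq_comm,
        ConjClasses.mk_eq_mk_iff_isConj, isConj_iff]
      refine ⟨sg, suIsom_injective hσ ?_⟩
      rw [map_mul, map_mul, map_inv, hsg]
      set a := suIsom hσ (rep C.1)
      set a' := suIsom hσ (rep C'.1)
      show g * a' * g⁻¹ = a
      rw [mul_inv_eq_iff_eq_mul, hg, show a' = h C' * α₀ * (h C')⁻¹ by rw [hh C', mul_inv_cancel_right]]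
      calc h C * z * (h C')⁻¹ * (h C' * α₀ * (h C')⁻¹) = h C * (z * α₀) * (h C')⁻¹ := by group
        _ = h C * (α₀ * z) * (h C')⁻¹ := by rw [hzc']
        _ = a * h C * z * (h C')⁻¹ := by rw [← hh C]; group
        _ = a * (h C * z * (h C')⁻¹) := by group
    · show R.index ≤ _
      rw [IsCyclic.index_powMonoidHom_range, hU]
      exact le_of_eq (Nat.gcd_eq_right (gS_dvd_sub (q + 2) _))
  refine le_trans ?_ ((weighted' hc hF hσ n n).trans (sum_sq_le' hc hF hσ n hn))
  refine Nat.mul_le_mul_left _ ?_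
  rw [← Nat.card_congr (Equiv.sigmaFiberEquiv T), Nat.card_sigma, Nat.card_sigma]
  exact Finset.sum_le_sum fun b _ => (hfib b).trans (by rw [Nat.card_fin])

theorem exists_of_pol {P : F[X]} (hP : Good σ P) (hd : P.natDegree = n) (hev : ev P = 1) :
    ∃ (a : Cfsg.SU n F q) (ψ : Q P ≃ₗ[F] (Fin n → F)),
      ∀ x, ψ (Ideal.Quotient.mk _ X * x) = Matrix.toLin' (a.1 : Matrix (Fin n) (Fin n) F) (ψ x) := by
  classical
  let φ : Q P ≃ₗ[F] (Fin n → F) :=
    ((AdjoinRoot.powerBasis hP.1.ne_zero).basis.reindex (finCongr (by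
      rw [AdjoinRoot.powerBasis_dim]; exact hd))).equivFun
  let L : Module.End F (Fin n → F) := φ.toLinearMap ∘ₗ mu P X ∘ₗ φ.symm.toLinearMap
  let A := LinearMap.toMatrix' L
  have hAL : Matrix.toLin' A = L := Matrix.toLin'_toMatrix' L
  have hφ : ∀ x, φ (mu P X x) = Matrix.toLin' A (φ x) := fun x => by
    rw [hAL]
    simp [L]
  have hdet : A.det = 1 := by
    rw [← LinearMap.det_toLin', hAL, show L = φ.toLinearMap ∘ₗ mu P X ∘ₗ φ.symm.toLinearMap from rfl,
      LinearMap.det_conj, ← norm_mk, norm_X hP.1, hev]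
  have hA : IsUnit A := (Matrix.isUnit_iff_isUnit_det _).2 (by rw [hdet]; exact isUnit_one)
  have hmu : ∀ f x, aeval (mu P X) f x = Ideal.Quotient.mk _ f * x := by
    intro f
    induction f using Polynomial.induction_on with
    | C a => intro x; rw [aeval_C, Module.algebraMap_end_apply, smul_eq_mk_C_mul]
    | add p r hp hr => intro x; rw [map_add, LinearMap.add_apply, hp, hr, map_add, add_mul]
    | monomial k a ih =>
      intro x
      rw [pow_succ, ← mul_assoc, map_mul (aeval (mu P X)), Module.End.mul_apply, aeval_X, ih, map_mul _ (_ * _) X,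
        mu_eq_smul, mk_X_smul, ← mul_assoc]
  have hsym : Symm σ A := by
    intro p hp h0 k
    have hd : Dual σ P P := ⟨hP.1, hP.2.1, hP.2.2.symm⟩
    have h0k : (p ^ k).coeff 0 ≠ 0 := by rw [coeff_zero_pow]; exact pow_ne_zero _ h0
    have e : ∀ f : F[X], Nat.card {v : Fin n → F // aeval (Matrix.toLin' A) f v = 0} =
        Nat.card {x : Q P // Ideal.Quotient.mk _ f * x = 0} := fun f =>
      Nat.card_congr ((φ.toEquiv.subtypeEquiv fun x => by
        show _ ↔ aeval (Matrix.toLin' A) f (φ x) = 0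
        have h2 := aeval_intertwine φ.toLinearMap (mu P X) (Matrix.toLin' A) hφ f x
        rw [LinearEquiv.coe_coe] at h2
        rw [← h2, LinearEquiv.map_eq_zero_iff, hmu]).symm)
    rw [e, e, ← star_pow]
    refine Nat.card_congr ((tauEquiv hc hd).toEquiv.subtypeEquiv fun x => ?_)
    show _ ↔ Ideal.Quotient.mk _ (star σ (p ^ k)) * tau hd x = 0
    have h1 := tau0_mul_pow_star (σ := σ) hd.coeff0' h0k
    have hXu : IsUnit (Ideal.Quotient.mk (Ideal.span {P}) X ^ (p ^ k).natDegree) :=
      (IsUnit.of_mul_eq_one _ (X_mul_xinv hd.coeff0')).pow _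
    have hCu : IsUnit (Ideal.Quotient.mk (Ideal.span {P}) (C (σ ((p ^ k).coeff 0)))) :=
      ((isUnit_C.2 ((Ne.isUnit ((map_ne_zero σ).2 h0k)))).map _)
    rw [← map_eq_zero_iff (tau hd) (tauEquiv hc hd).injective, map_mul, tau_mk,
      ← hXu.mul_right_eq_zero (a := Ideal.Quotient.mk _ X ^ (p ^ k).natDegree),
      ← hCu.mul_right_eq_zero (b := Ideal.Quotient.mk (Ideal.span {P}) (star σ (p ^ k)) * tau hd x)]
    rw [← mul_assoc, mul_comm _ (tau0 σ P (p ^ k)), h1, mul_assoc]
  obtain ⟨g, e, hg⟩ := exists_similar_isometry hc hA hsym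
  have hgd : LinearMap.det (toEndU g) = 1 := by
    have : toEndU g = e.toLinearMap ∘ₗ Matrix.toLin' A ∘ₗ e.symm.toLinearMap :=
      LinearMap.ext fun v => by
        show g.1 v = e (Matrix.toLin' A (e.symm v))
        rw [hg, e.apply_symm_apply]
    rw [this, LinearMap.det_conj, LinearMap.det_toLin', hdet]
  obtain ⟨a, ha⟩ := exists_suIsom hσ g hgd
  refine ⟨a, φ.trans e, fun x => ?_⟩
  rw [← suIsom_apply hσ a, ha, toEndU_apply, LinearEquiv.trans_apply, LinearEquiv.trans_apply, ← hg, ← hφ]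
  rfl

/-- The lower bound. -/
theorem le_card_classes (hn : 0 < n) : q ^ (n - 1) ≤ Nat.card (ConjClasses (Cfsg.SU n F q)) := by
  classical
  obtain ⟨k, rfl⟩ : ∃ k, n = k + 1 := ⟨n - 1, by omega⟩
  rw [Nat.add_sub_cancel]
  let x : (normHom σ).ker := ⟨(-1) ^ (k + 1), mem_normKer.2 (by
    rw [Units.val_pow_eq_pow_val, Units.val_neg, Units.val_one, map_pow, map_neg, map_one, ← mul_pow]
    simp)⟩
  rw [← card_fibre hc hF k x]
  have hev : ∀ P : {P : SPol σ (k + 1) // c0 P.2.1 = x}, ev P.1.1 = 1 := fun P => by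
    have h : P.1.1.coeff 0 = (((x : (normHom σ).ker) : Fˣ) : F) :=
      congrArg (fun u : (normHom σ).ker => ((u : Fˣ) : F)) P.2
    rw [ev, h, P.1.2.2]
    show (-1 : F) ^ (k + 1) * (((-1 : Fˣ) ^ (k + 1) : Fˣ) : F) = 1
    rw [Units.val_pow_eq_pow_val, ← mul_pow]
    simp
  choose a ψ hψ using fun P : {P : SPol σ (k + 1) // c0 P.2.1 = x} =>
    exists_of_pol hc hσ hF P.1.2.1 P.1.2.2 (hev P)
  refine Nat.card_le_card_of_injective (fun P => ConjClasses.mk (a P)) fun P R h => ?_
  obtain ⟨c, hc'⟩ := isConj_iff.1 (ConjClasses.mk_eq_mk_iff_isConj.1 h)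
  let θ := ((ψ P).trans (suIsom hσ c).1).trans (ψ R).symm
  have hθ : ∀ y, θ (mu P.1.1 X y) = mu R.1.1 X (θ y) := by
    intro y
    apply (ψ R).injective
    simp only [θ, LinearEquiv.trans_apply, LinearEquiv.apply_symm_apply]
    rw [show mu R.1.1 X ((ψ R).symm ((suIsom hσ c).1 (ψ P y))) =
      Ideal.Quotient.mk _ X * (ψ R).symm ((suIsom hσ c).1 (ψ P y)) from rfl, hψ,
      LinearEquiv.apply_symm_apply, show mu P.1.1 X y = Ideal.Quotient.mk _ X * y from rfl, hψ,
      ← suIsom_apply hσ (a P), ← suIsom_apply hσ (a R), toEndU_apply, toEndU_apply]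
    have e1 : suIsom hσ c * suIsom hσ (a P) = suIsom hσ (a R) * suIsom hσ c := by
      rw [← map_mul, ← map_mul, ← hc', inv_mul_cancel_right]
    exact congrArg (fun g : isomGroup (stdHerm σ (k + 1)) => g.1 (ψ P y)) e1
  have hz := aeval_intertwine θ.toLinearMap _ _ hθ R.1.1 1
  have hmu : ∀ (P f : F[X]), aeval (mu P X) f 1 = Ideal.Quotient.mk (Ideal.span {P}) f := by
    intro P f
    induction f using Polynomial.induction_on with
    | C a => rw [aeval_C, Module.algebraMap_end_apply, smul_eq_mk_C_mul, mul_one]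
    | add p r hp hr => rw [map_add, LinearMap.add_apply, hp, hr, map_add]
    | monomial m a ih =>
      rw [pow_succ', mul_left_comm, map_mul (aeval (mu P X)), Module.End.mul_apply, aeval_X, ih, mu_mk]
  have hann : ∀ y, aeval (mu R.1.1 X) R.1.1 y = 0 := fun y => by
    obtain ⟨f, rfl⟩ := Ideal.Quotient.mk_surjective y
    have h1 := aeval_intertwine (mu R.1.1 f) (mu R.1.1 X) (mu R.1.1 X)
      (fun v => mul_left_comm (Ideal.Quotient.mk _ f) (Ideal.Quotient.mk _ X) v) R.1.1 1
    rw [hmu, show mu R.1.1 f 1 = Ideal.Quotient.mk _ f from mul_one _, (mk_eq_zero_iff _ _).2 dvd_rfl,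
      map_zero] at h1
    exact h1.symm
  rw [hann, hmu, LinearEquiv.coe_coe, LinearEquiv.map_eq_zero_iff, mk_eq_zero_iff] at hz
  refine Subtype.ext (Subtype.ext ?_)
  exact (eq_of_monic_of_dvd_of_natDegree_le P.1.2.1.1 R.1.2.1.1 hz (by rw [P.1.2.2, R.1.2.2])).symm

theorem hundred_card_classes_le (hn : 2 ≤ n) :
    100 * Nat.card (ConjClasses (Cfsg.SU n F q)) ≤ 826 * q ^ (n - 1) := by
  refine Nat.le_of_mul_le_mul_left ?_ (Nat.succ_pos q)
  calc (q + 1) * (100 * Nat.card (ConjClasses (Cfsg.SU n F q)))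
      = 100 * ((q + 1) * Nat.card (ConjClasses (Cfsg.SU n F q))) := by ring
    _ ≤ 100 * E q n := Nat.mul_le_mul_left _ (card_classes_le hc hσ hF (by omega))
    _ ≤ 826 * ((q + 1) * q ^ (n - 1)) := E_le q n (two_le_of_card_sq hF) hn
    _ = (q + 1) * (826 * q ^ (n - 1)) := by ring

end

end CfsgLib.ClassNumberSU
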