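import Cfsg.Agent.Lib.Classical.HermBasic
import Cfsg.Agent.Lib.KnownA.ClassNumberSL.Decomp

/-!
The conjugate reciprocal of a polynomial, and kernels of polynomials in isometries of Hermitian forms.
-/

set_option autoImplicit false
set_option linter.unusedSectionVars false

namespace CfsgLib.ClassNumberSU

open Polynomial Finset CfsgLib.Classical CfsgLib.ClassNumberSL

variable {F : Type*} [Field F] {σ : F →+* F}

/-- The monic polynomial whose roots are the inverses of the conjugates of the roots. -/
noncomputable def star (σ : F →+* F) (P : F[X]) : F[X] := C (σ (P.coeff 0))⁻¹ * (P.map σ).reverse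

theorem natDegree_reverse_map (σ : F →+* F) {P : F[X]} (h0 : P.coeff 0 ≠ 0) :
    (P.map σ).reverse.natDegree = P.natDegree := by
  rw [reverse_natDegree, natDegree_map, natTrailingDegree_eq_zero.2 (Or.inr ?_), Nat.sub_zero]
  rwa [coeff_map, ne_eq, map_eq_zero]

theorem natDegree_star {P : F[X]} (h0 : P.coeff 0 ≠ 0) : (star σ P).natDegree = P.natDegree := by
  rw [star, natDegree_C_mul (inv_ne_zero ((map_ne_zero σ).2 h0)), natDegree_reverse_map σ h0]

theorem monic_star {P : F[X]} (h0 : P.coeff 0 ≠ 0) : (star σ P).Monic := by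
  rw [star, Monic, leadingCoeff_mul, leadingCoeff_C, reverse_leadingCoeff, trailingCoeff,
    natTrailingDegree_eq_zero.2 (Or.inr (by rwa [coeff_map, ne_eq, map_eq_zero])), coeff_map,
    inv_mul_cancel₀ ((map_ne_zero σ).2 h0)]

theorem coeff_star {P : F[X]} {j : ℕ} (hj : j ≤ P.natDegree) :
    (star σ P).coeff j = (σ (P.coeff 0))⁻¹ * σ (P.coeff (P.natDegree - j)) := by
  rw [star, coeff_C_mul, coeff_reverse, natDegree_map, coeff_map, revAt_le hj]

theorem coeff_zero_star {P : F[X]} (hP : P.Monic) : (star σ P).coeff 0 = (σ (P.coeff 0))⁻¹ := by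
  rw [coeff_star (Nat.zero_le _), Nat.sub_zero, hP.coeff_natDegree, map_one, mul_one]

theorem coeff_zero_star_ne {P : F[X]} (hP : P.Monic) (h0 : P.coeff 0 ≠ 0) : (star σ P).coeff 0 ≠ 0 := by
  rw [coeff_zero_star hP]
  exact inv_ne_zero ((map_ne_zero σ).2 h0)

theorem star_mul (P R : F[X]) : star σ (P * R) = star σ P * star σ R := by
  simp only [star, mul_coeff_zero, map_mul, Polynomial.map_mul, mul_inv, reverse_mul_of_domain]
  ring

theorem star_one : star σ 1 = 1 := by simp [star, reverse, natDegree_one]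

theorem star_pow (P : F[X]) : ∀ k, star σ (P ^ k) = star σ P ^ k
  | 0 => by simp [star_one]
  | k + 1 => by rw [pow_succ, star_mul, star_pow P k, pow_succ]

theorem star_prod {ι : Type*} (s : Finset ι) (P : ι → F[X]) : star σ (∏ j ∈ s, P j) = ∏ j ∈ s, star σ (P j) := by
  classical
  induction s using Finset.induction_on with
  | empty => simp [star_one]
  | @insert a s ha ih => rw [prod_insert ha, prod_insert ha, star_mul, ih]

theorem star_star (hc : IsConjugation σ) {P : F[X]} (hP : P.Monic) (h0 : P.coeff 0 ≠ 0) :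
    star σ (star σ P) = P := by
  ext j
  rcases le_or_gt j P.natDegree with hj | hj
  · rw [coeff_star (by rwa [natDegree_star h0]), natDegree_star h0, coeff_zero_star hP,
      coeff_star (Nat.sub_le _ _), Nat.sub_sub_self hj, map_mul, map_inv₀, hc.invol, hc.invol, inv_inv,
      ← mul_assoc, mul_inv_cancel₀ h0, one_mul]
  · rw [coeff_eq_zero_of_natDegree_lt hj, coeff_eq_zero_of_natDegree_lt]
    rwa [natDegree_star (coeff_zero_star_ne hP h0), natDegree_star h0]

theorem irreducible_star (hc : IsConjugation σ) {P : F[X]} (hP : P.Monic) (h0 : P.coeff 0 ≠ 0)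
    (hi : Irreducible P) : Irreducible (star σ P) := by
  have hm := monic_star (σ := σ) h0
  refine hm.irreducible_iff_natDegree.2 ⟨fun h => ?_, fun f g hf hg hfg => ?_⟩
  · have := hi.natDegree_pos
    rw [← natDegree_star (σ := σ) h0, h, natDegree_one] at this
    exact lt_irrefl 0 this
  have hfg0 : (f * g).coeff 0 ≠ 0 := by rw [hfg]; exact coeff_zero_star_ne hP h0
  rw [mul_coeff_zero] at hfg0
  have hf0 := left_ne_zero_of_mul hfg0
  have hg0 := right_ne_zero_of_mul hfg0
  have h := star_star hc hP h0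
  rw [← hfg, star_mul] at h
  rcases (hP.irreducible_iff_natDegree.1 hi).2 _ _
    (monic_star hf0) (monic_star hg0) h with hd | hd
  · exact Or.inl (by rwa [natDegree_star hf0] at hd)
  · exact Or.inr (by rwa [natDegree_star hg0] at hd)

theorem ev_norm {P : F[X]} (hP : P.Monic) (h0 : P.coeff 0 ≠ 0) (hs : star σ P = P) :
    ev P * σ (ev P) = 1 := by
  have h := coeff_zero_star (σ := σ) hP
  rw [hs] at h
  have h1 : P.coeff 0 * σ (P.coeff 0) = 1 := by
    nth_rw 1 [h]
    exact inv_mul_cancel₀ ((map_ne_zero σ).2 h0)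
  rw [ev, map_mul, map_pow, map_neg, map_one]
  calc _ = ((-1 : F) ^ P.natDegree * (-1) ^ P.natDegree) * (P.coeff 0 * σ (P.coeff 0)) := by ring
    _ = 1 := by rw [h1, ← mul_pow]; simp

section Kernels

variable {V : Type*} [AddCommGroup V] [Module F V] [FiniteDimensional F V] {B : V →ₛₗ[σ] V →ₗ[F] F}

theorem aeval_inv_mul_pow (x y : Module.End F V) (hxy : x * y = 1) (hyx : y * x = 1) (P : F[X]) :
    aeval y P * x ^ P.natDegree = aeval x P.reverse := by
  have hpow : ∀ i ≤ P.natDegree, y ^ i * x ^ P.natDegree = x ^ (P.natDegree - i) := by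
    intro i hi
    conv_lhs => rw [← Nat.add_sub_cancel' hi, pow_add, ← mul_assoc, ← (Commute.mul_pow (hyx.trans hxy.symm) i)]
    rw [hyx, one_pow, one_mul]
  rw [aeval_eq_sum_range, aeval_eq_sum_range' (n := P.natDegree + 1)
    (Nat.lt_succ_of_le (reverse_natDegree_le P)), Finset.sum_mul, ← Finset.sum_range_reflect]
  refine Finset.sum_congr rfl fun j hj => ?_
  have hj' : j ≤ P.natDegree := Nat.le_of_lt_succ (mem_range.1 hj)
  rw [smul_mul_assoc, Nat.add_sub_cancel, hpow _ (Nat.sub_le _ _), Nat.sub_sub_self hj', coeff_reverse,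
    revAt_le hj']

theorem adjoint_aeval (x y : Module.End F V) (hxy : x * y = 1) (hx : ∀ u v, B (x u) (x v) = B u v)
    (P : F[X]) : ∀ v w, B (aeval x P v) w = B v (aeval y (P.map σ) w) := by
  have hB : ∀ v w, B (x v) w = B v (y w) := fun v w => by
    conv_lhs => rw [show w = x (y w) from (LinearMap.congr_fun hxy w).symm]
    rw [hx]
  induction P using Polynomial.induction_on with
  | C a => intro v w; simp [Module.algebraMap_end_apply]
  | add p r hp hr => intro v w; simp [hp v w, hr v w]
  | monomial k a ih =>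
    intro v w
    have e1 : (C a : F[X]) * X ^ (k + 1) = (C a * X ^ k) * X := by rw [pow_succ, mul_assoc]
    have e2 : ((C a : F[X]) * X ^ (k + 1)).map σ = X * (C a * X ^ k).map σ := by
      rw [e1, Polynomial.map_mul, map_X, mul_comm]
    rw [e2, map_mul (aeval y) X, aeval_X, Module.End.mul_apply, ← hB, ← ih, e1,
      map_mul (aeval x) _ X, aeval_X, Module.End.mul_apply]

theorem finrank_ker_le_star (hN : B.SeparatingRight) (x y : Module.End F V) (hxy : x * y = 1)
    (hyx : y * x = 1) (hx : ∀ u v, B (x u) (x v) = B u v) {P : F[X]} (h0 : P.coeff 0 ≠ 0) :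
    Module.finrank F (LinearMap.ker (aeval x P)) ≤ Module.finrank F (LinearMap.ker (aeval x (star σ P))) := by
  set f := aeval x P
  set g := aeval y (P.map σ)
  have h1 : perp B (LinearMap.range f) ≤ LinearMap.ker g := by
    intro w hw
    refine LinearMap.mem_ker.2 (hN _ fun v => ?_)
    rw [← adjoint_aeval x y hxy hx]
    exact mem_perp.1 hw _ ⟨v, rfl⟩
  have h2 : LinearMap.ker g ≤ (LinearMap.ker (aeval x (star σ P))).map (x ^ P.natDegree) := by
    intro w hw
    refine ⟨(y ^ P.natDegree) w, LinearMap.mem_ker.2 ?_, ?_⟩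
    · rw [star, map_mul, ← aeval_inv_mul_pow x y hxy hyx, natDegree_map, Module.End.mul_apply,
        Module.End.mul_apply, show (x ^ P.natDegree) ((y ^ P.natDegree) w) = w from ?_, LinearMap.mem_ker.1 hw,
        map_zero]
      rw [← Module.End.mul_apply, ← Commute.mul_pow (hxy.trans hyx.symm), hxy, one_pow, Module.End.one_apply]
    · rw [← Module.End.mul_apply, ← Commute.mul_pow (hxy.trans hyx.symm), hxy, one_pow, Module.End.one_apply]
  have h3 := finrank_le_finrank_perp_add B (LinearMap.range f)
  have h4 := LinearMap.finrank_range_add_finrank_ker f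
  have h5 := Submodule.finrank_mono h1
  have h6 := (Submodule.finrank_mono h2).trans (Submodule.finrank_map_le _ _)
  omega

theorem finrank_ker_star (hc : IsConjugation σ) (hN : B.SeparatingRight) (x y : Module.End F V)
    (hxy : x * y = 1) (hyx : y * x = 1) (hx : ∀ u v, B (x u) (x v) = B u v) {P : F[X]} (hP : P.Monic)
    (h0 : P.coeff 0 ≠ 0) :
    Module.finrank F (LinearMap.ker (aeval x P)) = Module.finrank F (LinearMap.ker (aeval x (star σ P))) := by
  refine le_antisymm (finrank_ker_le_star hN x y hxy hyx hx h0) ?_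
  have h := finrank_ker_le_star hN x y hxy hyx hx (coeff_zero_star_ne (σ := σ) hP h0)
  rwa [star_star hc hP h0] at h

end Kernels

end CfsgLib.ClassNumberSU
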